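import Cfsg.Agent.Fix4.TwoGrp

/-!
Partial transfer maps and a transfer theorem for Sylow `3`-subgroups of maximal class.
-/

set_option autoImplicit false

namespace Cfsg.Agent.Fix4

open Subgroup MulAction
open scoped Pointwise

variable {G : Type*} [Group G]

section det

variable {P : Subgroup G} {A : Type*} [CommGroup A] (θ : P →* A)

theorem coc_mem (g : G) (x : G ⧸ P) : (g • x).out⁻¹ * (g * x.out) ∈ P := by
  rw [← QuotientGroup.eq, QuotientGroup.out_eq', ← smul_eq_mul, Quotient.mk_smul_out]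

/-- The transfer cocycle. -/
noncomputable def coc (g : G) (x : G ⧸ P) : A := θ ⟨_, coc_mem g x⟩

theorem coc_mul (g h : G) (x : G ⧸ P) : coc θ (g * h) x = coc θ g (h • x) * coc θ h x := by
  rw [coc, coc, coc, ← map_mul]
  congr 1
  apply Subtype.ext
  simp only [coe_mul, mul_smul]
  group

theorem coc_one (x : G ⧸ P) : coc θ 1 x = 1 := by
  rw [coc, ← θ.map_one]
  congr 1
  apply Subtype.ext
  simp

/-- The partial transfer over a set of cosets. -/
noncomputable def det (S : Set (G ⧸ P)) (g : G) : A := ∏ᶠ x ∈ S, coc θ g x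

variable [Finite G]

theorem finprod_smul {S : Set (G ⧸ P)} {h : G} (hS : ∀ x ∈ S, h • x ∈ S) (f : G ⧸ P → A) :
    ∏ᶠ x ∈ S, f (h • x) = ∏ᶠ x ∈ S, f x := by
  have h1 : (fun x => h • x) '' S = S := mem_stabilizer_iff.1 (mem_stab_set hS)
  conv_rhs => rw [← h1]
  rw [finprod_mem_image (MulAction.injective h).injOn]

theorem det_mul {S : Set (G ⧸ P)} (g : G) {h : G} (hS : ∀ x ∈ S, h • x ∈ S) :
    det θ S (g * h) = det θ S g * det θ S h := by
  simp only [det, coc_mul]
  rw [finprod_mem_mul_distrib (Set.toFinite _), finprod_smul hS]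

omit [Finite G] in
theorem det_one (S : Set (G ⧸ P)) : det θ S 1 = 1 := by
  simp [det, coc_one]

theorem det_conj {S : Set (G ⧸ P)} (w : G) {g : G} (hS : ∀ x ∈ S, g • x ∈ S) :
    ∏ᶠ x ∈ S, coc θ (w * g * w⁻¹) (w • x) = det θ S g := by
  have h1 : ∀ x, coc θ (w * g * w⁻¹) (w • x) * coc θ w x = coc θ w (g • x) * coc θ g x := by
    intro x
    rw [← coc_mul, ← coc_mul, inv_mul_cancel_right]
  have h2 := finprod_mem_congr (s := S) rfl (fun x _ => h1 x)
  rw [finprod_mem_mul_distrib (Set.toFinite _), finprod_mem_mul_distrib (Set.toFinite _),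
    finprod_smul hS (coc θ w), mul_comm] at h2
  exact mul_left_cancel h2

/-- The partial transfer as a homomorphism. -/
noncomputable def detHom (M : Subgroup G) (S : Set (G ⧸ P)) (hS : ∀ m ∈ M, ∀ x ∈ S, m • x ∈ S) :
    M →* A :=
  MonoidHom.mk' (fun m => det θ S m) fun _ b => det_mul θ _ (hS b b.2)

theorem det_univ (hG : _root_.commutator G = ⊤) (g : G) : det θ Set.univ g = 1 := by
  let f : G →* A := MonoidHom.mk' (fun m => det θ Set.univ m)
    fun a b => det_mul θ _ (fun _ _ => Set.mem_univ _)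
  exact Abelianization.commutator_subset_ker f (hG ▸ mem_top g)

theorem det_eq_one_of_orb {S : Set (G ⧸ P)} {X : Subgroup G} (hS : ∀ m ∈ X, ∀ x ∈ S, m • x ∈ S)
    {g : G} (h : ∀ x ∈ S, det θ (orb X x) g = 1) : det θ S g = 1 := by
  have h1 : S = ⋃₀ (orb X '' S) := by
    ext x
    constructor
    · intro hx
      exact ⟨_, ⟨x, hx, rfl⟩, mem_orb_self _ _⟩
    · rintro ⟨_, ⟨y, hy, rfl⟩, hx⟩
      exact orb_subset hS hy hx
  rw [h1, det, finprod_mem_sUnion _ (Set.toFinite _) (fun _ _ => Set.toFinite _)]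
  · refine finprod_mem_eq_one_of_forall_eq_one ?_
    rintro _ ⟨x, hx, rfl⟩
    exact h x hx
  · rintro _ ⟨x, -, rfl⟩ _ ⟨y, -, rfl⟩ hne
    refine Set.disjoint_left.2 ?_
    rintro _ ⟨a, ha, rfl⟩ ⟨b, hb, e⟩
    apply hne
    ext c
    constructor
    · rintro ⟨d, hd, rfl⟩
      exact ⟨d * a⁻¹ * b, mul_mem (mul_mem hd (inv_mem ha)) hb, by
        rw [mul_smul, e, smul_smul, inv_mul_cancel_right]⟩
    · rintro ⟨d, hd, rfl⟩
      exact ⟨d * b⁻¹ * a, mul_mem (mul_mem hd (inv_mem hb)) ha, by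
        rw [mul_smul, ← e, smul_smul, inv_mul_cancel_right]⟩

end det

theorem exists_index_eq [Finite G] {p : ℕ} [hp : Fact p.Prime] (hG : IsPGroup p G)
    {D : Subgroup G} (hD : D ≠ ⊤) : ∃ M : Subgroup G, D ≤ M ∧ M.Normal ∧ M.index = p := by
  obtain ⟨n, hn⟩ := hG.exists_card_eq
  obtain ⟨k, hk⟩ := (hG.to_subgroup D).exists_card_eq
  have hkn : k < n := by
    have := two_mul_card_le (le_top : D ≤ ⊤) hD
    rw [card_top, hn, hk] at this
    have h1 : 0 < p ^ k := pow_pos hp.out.pos _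
    exact (Nat.pow_lt_pow_iff_right hp.out.one_lt).1 (by omega)
  obtain ⟨n, rfl⟩ : ∃ m, n = m + 1 := ⟨n - 1, by omega⟩
  obtain ⟨M, hM, hDM⟩ := Sylow.exists_subgroup_card_pow_prime_le p
    (hn ▸ pow_dvd_pow p (Nat.le_succ n)) D hk (by omega)
  have hi : M.index = p := by
    have := M.card_mul_index
    rw [hM, hn, pow_succ] at this
    exact Nat.eq_of_mul_eq_mul_left (pow_pos hp.out.pos _) this
  refine ⟨M, hDM, normal_of_index_eq_minFac_card ?_, hi⟩
  rw [hi, hn, hp.out.pow_minFac (Nat.succ_ne_zero n)]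

theorem mul_card_le [Finite G] {p : ℕ} [hp : Fact p.Prime] {A B : Subgroup G} (hB : IsPGroup p B)
    (h : A ≤ B) (hne : A ≠ B) : p * Nat.card A ≤ Nat.card B := by
  have h1 := Local.card_mul_relIndex h
  obtain ⟨k, hk⟩ := hB.index (A.subgroupOf B)
  change A.relIndex B = _ at hk
  rcases k with _ | k
  · exact absurd (le_antisymm h (relIndex_eq_one.1 hk)) hne
  · rw [← h1, hk, mul_comm, pow_succ']
    exact Nat.mul_le_mul_left _ (Nat.le_mul_of_pos_right _ (pow_pos hp.out.pos _))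

theorem relIndex_le_cent [Finite G] {U N : Subgroup G} {t : G} (ht : t ∈ U)
    (hN : ∀ s ∈ U, s * t * s⁻¹ * t⁻¹ ∈ N) : N.relIndex U ≤ Nat.card ↥(U ⊓ centralizer {t}) := by
  have h1 := card_cent_mul U t
  have h2 : (cl U t).ncard ≤ ((N ⊓ U : Subgroup G) : Set G).ncard := by
    refine Set.ncard_le_ncard_of_injOn (fun x => x * t⁻¹) ?_
      (fun x _ y _ e => mul_right_cancel e)
    rintro _ ⟨s, hs, rfl⟩
    exact ⟨hN s hs, U.mul_mem (U.mul_mem (U.mul_mem hs ht) (U.inv_mem hs)) (U.inv_mem ht)⟩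
  have h3 := Local.card_mul_relIndex (inf_le_right : N ⊓ U ≤ U)
  rw [inf_relIndex_right] at h3
  change _ ≤ Nat.card ↥(N ⊓ U) at h2
  have h4 := Nat.mul_le_mul_left (Nat.card ↥(U ⊓ centralizer {t})) h2
  rw [h1, ← h3, mul_comm] at h4
  exact Nat.le_of_mul_le_mul_right h4 Nat.card_pos

/-- A normal subgroup of order at most `p ^ 2` lies in the second centre. -/
theorem comm_comm_eq_one [Finite G] {p : ℕ} [hp : Fact p.Prime] (hG : IsPGroup p G)
    {M : Subgroup G} [M.Normal] (hM : Nat.card M ≤ p ^ 2) {m : G} (hm : m ∈ M) (g : G) :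
    g * m * g⁻¹ * m⁻¹ ∈ center G := by
  let Z2 : Subgroup G := (center (G ⧸ center G)).comap (QuotientGroup.mk' (center G))
  have hZ2 : ∀ x, x ∈ Z2 ↔ ∀ g, g * x * g⁻¹ * x⁻¹ ∈ center G := by
    intro x
    rw [mem_comap, mem_center_iff]
    constructor
    · intro h g
      rw [← QuotientGroup.eq_one_iff, ← QuotientGroup.mk'_apply, map_mul, map_mul, map_mul, h,
        map_inv, map_inv]
      group
    · intro h g
      obtain ⟨g, rfl⟩ := QuotientGroup.mk'_surjective (center G) g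
      have := (QuotientGroup.eq_one_iff _).2 (h g)
      rw [← QuotientGroup.mk'_apply, map_mul, map_mul, map_mul, map_inv, map_inv,
        mul_inv_eq_one, mul_inv_eq_iff_eq_mul] at this
      exact this
  have hle : center G ≤ Z2 := fun x hx => (hZ2 x).2 fun g => by
    rw [mem_center_iff.1 hx g]; simp
  refine (hZ2 m).1 ?_ g
  by_contra hm'
  have h3 := mul_card_le (hG.to_subgroup M) (inf_le_left : M ⊓ Z2 ≤ M)
    (fun e => hm' (e.ge hm).2)
  have h2 := mul_card_le (hG.to_subgroup (M ⊓ Z2)) (inf_le_inf_left M hle) (fun e => by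
    obtain ⟨x, hx, hx', -, hc⟩ := LinP.exists_central_mod hG (center G) M
      (fun h => hm' (hle (h hm)))
    exact hx' (e.ge ⟨hx, (hZ2 x).2 hc⟩).2)
  have h1 := mul_card_le (hG.to_subgroup (M ⊓ center G)) bot_le (fun e => by
    obtain ⟨x, hx, hx', hc⟩ := LinP.exists_central_of_normal hG M
      (fun h => hm' (by rw [h, mem_bot] at hm; exact hm ▸ one_mem _))
    have : x = 1 := mem_bot.1 (e.ge ⟨hx, hc⟩)
    rw [this, orderOf_one] at hx'
    exact hp.out.ne_one hx'.symm)
  rw [card_bot, mul_one] at h1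
  have h4 : p * (p * p) ≤ p ^ 2 :=
    ((Nat.mul_le_mul_left _ ((Nat.mul_le_mul_left _ h1).trans h2)).trans h3).trans hM
  have := hp.out.one_lt
  nlinarith

/-- The norm of `y` from a normal subgroup of index three is killed by homomorphisms to groups of
exponent three. -/
theorem norm_eq_one [Finite G] (hG : IsPGroup 3 G) {M : Subgroup G} [hM : M.Normal] {y : G}
    (hy : y ∈ M) (hc : Nat.card (centralizer {y}) ≤ 9) {A : Type*} [CommGroup A]
    (hA : ∀ a : A, a ^ 3 = 1) (W : M →* A) (w : G) :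
    W ⟨y, hy⟩ * W ⟨w * y * w⁻¹, hM.conj_mem _ hy _⟩ *
      W ⟨w * (w * y * w⁻¹) * w⁻¹, hM.conj_mem _ (hM.conj_mem _ hy _) _⟩ = 1 := by
  have : Fact (Nat.Prime 3) := ⟨Nat.prime_three⟩
  have hW : ∀ x (hx : x ∈ M), x ∈ ⁅M, M⁆ → W ⟨x, hx⟩ = 1 := by
    intro x hx h
    rw [← map_subtype_commutator] at h
    obtain ⟨x, h, rfl⟩ := h
    exact Abelianization.commutator_subset_ker W h
  have h1 : (⁅M, M⁆ : Subgroup G).relIndex M ≤ 9 :=
    (relIndex_le_cent hy fun s hs => commutator_mem_commutator hs hy).trans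
      ((card_le_of_le inf_le_right).trans hc)
  let π := QuotientGroup.mk' (⁅M, M⁆ : Subgroup G)
  have hn : (M.map π).Normal := hM.map _ (QuotientGroup.mk'_surjective _)
  have h2 : Nat.card (M.map π) ≤ 3 ^ 2 := by
    rw [← relIndex_ker, QuotientGroup.ker_mk']; exact h1
  have h3 := comm_comm_eq_one (hG.to_quotient _) h2 (mem_map_of_mem π hy) (π w)
  set k := w * y * w⁻¹ * y⁻¹ with hk
  have hkM : k ∈ M := mul_mem (hM.conj_mem _ hy _) (inv_mem hy)
  have h4 : w * k * w⁻¹ * k⁻¹ ∈ (⁅M, M⁆ : Subgroup G) := by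
    rw [← QuotientGroup.eq_one_iff, ← QuotientGroup.mk'_apply, map_mul, map_mul, map_mul,
      map_inv, map_inv, mul_inv_eq_one, mul_inv_eq_iff_eq_mul]
    have := mem_center_iff.1 h3 (π w)
    simp only [hk, map_mul, map_inv]
    exact this
  have h5 := hW _ (mul_mem (hM.conj_mem _ hkM w) (inv_mem hkM)) h4
  have e1 : (⟨w * y * w⁻¹, hM.conj_mem _ hy _⟩ : M) = ⟨k, hkM⟩ * ⟨y, hy⟩ :=
    Subtype.ext (by simp [hk])
  have e2 : (⟨w * (w * y * w⁻¹) * w⁻¹, hM.conj_mem _ (hM.conj_mem _ hy _) _⟩ : M) =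
      ⟨_, mul_mem (hM.conj_mem _ hkM w) (inv_mem hkM)⟩ * ⟨k, hkM⟩ * (⟨k, hkM⟩ * ⟨y, hy⟩) :=
    Subtype.ext (by simp only [hk, coe_mul]; group)
  rw [e1, e2]
  simp only [map_mul, h5, one_mul]
  have := hA (W ⟨k, hkM⟩ * W ⟨y, hy⟩)
  rw [← this, pow_succ, pow_two]
  generalize W ⟨k, hkM⟩ = a
  generalize W ⟨y, hy⟩ = b
  ac_rfl

theorem det_orb_eq_one [Finite G] {P : Subgroup G} (hP : IsPGroup 3 P) {A : Type*} [CommGroup A]
    (hA : ∀ a : A, a ^ 3 = 1) (θ : P →* A) {y : G} (hy : y ∈ P) (hy3 : y ^ 3 = 1)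
    (hc : Nat.card ↥(P ⊓ centralizer {y}) ≤ 9) {x : G ⧸ P} (hx : ∃ p ∈ P, p • x ≠ x) :
    det θ (orb P x) y = 1 := by
  have : Fact (Nat.Prime 3) := ⟨Nat.prime_three⟩
  obtain ⟨M, hDM, hMn, hM⟩ := exists_index_eq hP (D := (stabilizer G x).subgroupOf P) (by
    obtain ⟨p, hp, h⟩ := hx
    intro e
    exact h (show (⟨p, hp⟩ : P) ∈ (stabilizer G x).subgroupOf P from e ▸ mem_top _))
  set M' := M.map P.subtype
  have hinv : ∀ m ∈ M', ∀ z ∈ orb M' x, m • z ∈ orb M' x := by
    rintro m hm _ ⟨a, ha, rfl⟩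
    exact ⟨m * a, mul_mem hm ha, mul_smul _ _ _⟩
  have split : ∀ w : P, w ∉ M → ∀ f : G ⧸ P → A, ∏ᶠ z ∈ orb P x, f z =
      (∏ᶠ z ∈ orb M' x, f z) * (∏ᶠ z ∈ orb M' x, f ((w : G) • z)) *
        ∏ᶠ z ∈ orb M' x, f ((w : G) • (w : G) • z) := by
    intro w hw f
    have hq : Nat.card (P ⧸ M) = 3 := hM
    have hw1 : (w : P ⧸ M) ≠ 1 := fun e => hw ((QuotientGroup.eq_one_iff _).1 e)
    have hw3 : (w : P ⧸ M) ^ 3 = 1 := by rw [← hq]; exact pow_card_eq_one'
    have hww : w * w ∉ M := by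
      intro e
      apply hw1
      have := (QuotientGroup.eq_one_iff _).2 e
      rw [pow_succ, pow_two, ← QuotientGroup.mk_mul, this, one_mul] at hw3
      exact hw3
    have dis : ∀ v : P, v ∉ M → Disjoint (orb M' x) ((fun z => (v : G) • z) '' orb M' x) := by
      intro v hv
      refine Set.disjoint_left.2 ?_
      rintro _ ⟨_, ⟨a, ha, rfl⟩, rfl⟩ ⟨_, ⟨_, ⟨b, hb, rfl⟩, rfl⟩, e⟩
      apply hv
      have : a⁻¹ * v * b ∈ M := hDM (by
        rw [mem_subgroupOf, mem_stabilizer_iff]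
        simp only [coe_mul, coe_inv, mul_smul]
        rw [inv_smul_eq_iff]; exact e)
      rwa [M.mul_mem_cancel_right hb, M.mul_mem_cancel_left (inv_mem ha)] at this
    have h1 : orb P x = (orb M' x ∪ (fun z => (w : G) • z) '' orb M' x) ∪
        (fun z => (w : G) • (w : G) • z) '' orb M' x := by
      ext z
      constructor
      · rintro ⟨p, hp, rfl⟩
        have hz : (⟨p, hp⟩ : P) ∈ (zpowers (w : P ⧸ M)).comap (QuotientGroup.mk' M) := by
          rw [mem_comap, zpowers_eq_top_of_prime_card hq hw1]; exact mem_top _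
        obtain ⟨i, hi⟩ := hz
        have hi' : (w : P ⧸ M) ^ (i % 3) = (⟨p, hp⟩ : P) := by
          rw [← QuotientGroup.mk'_apply M ⟨p, hp⟩, ← hi]
          exact (zpow_eq_zpow_emod i (by exact_mod_cast hw3)).symm
        have h3 : i % 3 = 0 ∨ i % 3 = 1 ∨ i % 3 = 2 := by omega
        rcases h3 with h | h | h <;> rw [h] at hi'
        · rw [zpow_zero, eq_comm, QuotientGroup.eq_one_iff] at hi'
          exact Or.inl (Or.inl ⟨p, ⟨_, hi', rfl⟩, rfl⟩)
        · rw [zpow_one, QuotientGroup.eq] at hi'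
          exact Or.inl (Or.inr ⟨_, ⟨_, ⟨_, hi', rfl⟩, rfl⟩, by simp [smul_smul]⟩)
        · rw [zpow_two, ← QuotientGroup.mk_mul, QuotientGroup.eq] at hi'
          exact Or.inr ⟨_, ⟨_, ⟨_, hi', rfl⟩, rfl⟩, by simp [smul_smul, mul_assoc]⟩
      · rintro ((⟨_, ⟨a, -, rfl⟩, rfl⟩ | ⟨_, ⟨_, ⟨a, -, rfl⟩, rfl⟩, rfl⟩) |
          ⟨_, ⟨_, ⟨a, -, rfl⟩, rfl⟩, rfl⟩)
        · exact ⟨a, a.2, rfl⟩
        · exact ⟨(w * a : P), (w * a).2, mul_smul _ _ _⟩
        · exact ⟨(w * w * a : P), (w * w * a).2, by simp [mul_smul]⟩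
    rw [h1, finprod_mem_union, finprod_mem_union (dis w hw) (Set.toFinite _) (Set.toFinite _),
      finprod_mem_image (MulAction.injective _).injOn,
      finprod_mem_image (fun _ _ _ _ e => MulAction.injective _ (MulAction.injective _ e))]
    · rw [Set.disjoint_union_left]
      constructor
      · have := dis _ hww
        simpa [mul_smul] using this
      · have := (Set.disjoint_image_iff (MulAction.injective (w : G))).2 (dis w hw)
        rwa [Set.image_image] at this
    · exact Set.toFinite _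
    · exact Set.toFinite _
  by_cases hyM : (⟨y, hy⟩ : P) ∈ M
  · obtain ⟨w, hw⟩ : ∃ w, w ∉ M := by
      by_contra hh
      push Not at hh
      rw [(eq_top_iff (a := M)).2 fun w _ => hh w, index_top] at hM
      omega
    have hc' : Nat.card (centralizer {(⟨y, hy⟩ : P)}) ≤ 9 := by
      rw [← Pres.card_subgroupOf_of_le (inf_le_left : P ⊓ centralizer {y} ≤ P)] at hc
      refine le_trans (card_le_of_le fun s hs => ?_) hc
      rw [mem_centralizer_singleton_iff] at hs
      exact ⟨s.2, mem_centralizer_singleton_iff.2 (congrArg Subtype.val hs)⟩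
    have h1 := norm_eq_one hP hyM hc' hA ((detHom θ M' _ hinv).comp (P.subtype.subgroupMap M)) w⁻¹
    rw [det, split w hw, ← h1]
    have hm1 : ((w⁻¹ * ⟨y, hy⟩ * w⁻¹⁻¹ : P) : G) ∈ M' := ⟨_, hMn.conj_mem _ hyM _, rfl⟩
    have hm2 : ((w⁻¹ * (w⁻¹ * ⟨y, hy⟩ * w⁻¹⁻¹) * w⁻¹⁻¹ : P) : G) ∈ M' :=
      ⟨_, hMn.conj_mem _ (hMn.conj_mem _ hyM _) _, rfl⟩
    congr 1
    · congr 1
      have := det_conj θ (w : G) (hinv _ hm1)
      refine Eq.trans ?_ this
      simp [mul_assoc]
    · have := det_conj θ ((w : G) * w) (hinv _ hm2)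
      refine Eq.trans ?_ this
      simp [mul_assoc, mul_smul]
  · rw [det, split _ hyM, ← finprod_mem_mul_distrib (Set.toFinite _),
      ← finprod_mem_mul_distrib (Set.toFinite _)]
    refine finprod_mem_eq_one_of_forall_eq_one fun z _ => ?_
    have := coc_one θ z
    rw [← hy3, pow_succ, pow_two, coc_mul, coc_mul] at this
    rw [← this]
    ac_rfl

theorem prod_ne_one {A : Type*} [CommGroup A] [Finite A] (h9 : Nat.card A = 9)
    (hA : ∀ a : A, a ^ 3 = 1) (O : Finset A) (hne : O.Nonempty) (h1 : 1 ∉ O)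
    (hinv : ∀ a ∈ O, a⁻¹ ∉ O) (h3 : ¬ 3 ∣ O.card) : ∏ a ∈ O, a ≠ 1 := by
  classical
  have := Fintype.ofFinite A
  have hd : Disjoint O (O.image (·⁻¹)) := by
    rw [Finset.disjoint_right]
    intro a ha ha'
    obtain ⟨b, hb, rfl⟩ := Finset.mem_image.1 ha
    exact hinv b hb ha'
  have hc : (insert 1 (O ∪ O.image (·⁻¹))).card = 2 * O.card + 1 := by
    rw [Finset.card_insert_of_notMem, Finset.card_union_of_disjoint hd,
      Finset.card_image_of_injective _ inv_injective, two_mul]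
    simp [h1]
  have hle := Finset.card_le_univ (insert 1 (O ∪ O.image (·⁻¹)))
  rw [← Nat.card_eq_fintype_card, h9] at hle
  have hpos := hne.card_pos
  have hsq : ∀ a : A, a * a = a⁻¹ := fun a => by
    rw [eq_inv_iff_mul_eq_one, ← hA a, pow_succ, pow_two]
  obtain h | h | h : O.card = 1 ∨ O.card = 2 ∨ O.card = 4 := by omega
  · obtain ⟨a, rfl⟩ := Finset.card_eq_one.1 h
    simpa [eq_comm] using h1
  · obtain ⟨a, b, hab, rfl⟩ := Finset.card_eq_two.1 h
    rw [Finset.prod_pair hab]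
    intro e
    exact hinv a (by simp) (by simp [eq_inv_of_mul_eq_one_right e])
  · have hu : insert 1 (O ∪ O.image (·⁻¹)) = Finset.univ :=
      Finset.eq_univ_of_card _ (by rw [hc, h, ← Nat.card_eq_fintype_card, h9])
    have key : ∀ a ∈ O, ∀ b ∈ O, a ≠ b → ∃ c ∈ O, c ≠ a ∧ c ≠ b ∧ (a * b = c ∨ a * b = c⁻¹) := by
      intro a ha b hb hab
      have : a * b ∈ insert 1 (O ∪ O.image (·⁻¹)) := hu ▸ Finset.mem_univ _
      rw [Finset.mem_insert, Finset.mem_union, Finset.mem_image] at this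
      rcases this with e | e | ⟨c, hc, e⟩
      · exact absurd (eq_inv_of_mul_eq_one_right e ▸ hb) (hinv a ha)
      · refine ⟨_, e, fun e' => h1 ?_, fun e' => h1 ?_, Or.inl rfl⟩
        · rwa [mul_eq_left.1 e'] at hb
        · rwa [mul_eq_right.1 e'] at ha
      · refine ⟨c, hc, ?_, ?_, Or.inr e.symm⟩
        · rintro rfl
          rw [← hsq] at e
          exact hab (mul_left_cancel e)
        · rintro rfl
          rw [← hsq] at e
          exact hab (mul_right_cancel e).symm
    obtain ⟨a, O', haO, rfl, h'⟩ := Finset.card_eq_succ.1 (show O.card = 3 + 1 from h)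
    obtain ⟨b, c, d, hbc, hbd, hcd, rfl⟩ := Finset.card_eq_three.1 h'
    simp only [Finset.mem_insert, Finset.mem_singleton, not_or] at haO
    rw [Finset.prod_insert (by simp [haO]), Finset.prod_insert (by simp [hbc, hbd]),
      Finset.prod_pair hcd]
    intro e
    obtain ⟨x, hx, hxa, hxb, hx'⟩ := key a (by simp) b (by simp) haO.1
    have hab : a * b = d⁻¹ * c⁻¹ := by
      rw [← mul_inv_rev, eq_inv_iff_mul_eq_one, ← e, mul_assoc]
    simp only [Finset.mem_insert, Finset.mem_singleton, hxa, hxb, false_or] at hx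
    rw [hab] at hx'
    have c1 : c ≠ 1 := fun e => h1 (by simp [e])
    have d1 : d ≠ 1 := fun e => h1 (by simp [e])
    rcases hx with rfl | rfl <;> rcases hx' with h | h
    · rw [mul_inv_eq_iff_eq_mul, hsq, inv_inj] at h; exact hcd h.symm
    · exact d1 (inv_eq_one.1 (mul_eq_right.1 h))
    · rw [mul_comm, mul_inv_eq_iff_eq_mul, hsq, inv_inj] at h; exact hcd h
    · exact c1 (inv_eq_one.1 (mul_eq_left.1 h))

/-- A perfect group cannot have a Sylow `3`-subgroup of order at least `27` with an element of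
order `3` whose centraliser in it has order `9` and which is not inverted in its normaliser. -/
theorem false_of_maxClass [Finite G] (hG : _root_.commutator G = ⊤) (P : Sylow 3 G) {y : G}
    (hy : y ∈ (P : Subgroup G)) (hy3 : y ^ 3 = 1) (y1 : y ≠ 1)
    (hc : Nat.card ↥((P : Subgroup G) ⊓ centralizer {y}) ≤ 9) (h27 : 9 < Nat.card P)
    (hN : ∀ n ∈ normalizer ((P : Subgroup G) : Set G), n * y * n⁻¹ ≠ y⁻¹) : False := by
  classical
  have : Fact (Nat.Prime 3) := ⟨Nat.prime_three⟩
  set Q : Subgroup G := (P : Subgroup G) with hQ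
  have hP : IsPGroup 3 Q := P.isPGroup'
  change 9 < Nat.card Q at h27
  set y' : Q := ⟨y, hy⟩
  have hc' : Nat.card ↥(⊤ ⊓ centralizer {y'} : Subgroup Q) ≤ 9 := by
    rw [← Pres.card_subgroupOf_of_le (inf_le_left : Q ⊓ centralizer {y} ≤ Q)] at hc
    refine le_trans (card_le_of_le fun s hs => ?_) hc
    exact ⟨s.2, mem_centralizer_singleton_iff.2
      (congrArg Subtype.val (mem_centralizer_singleton_iff.1 hs.2))⟩
  have hA : IsPGroup 3 (Abelianization Q) := hP.to_quotient _
  have hcA : Nat.card (Abelianization Q) = (_root_.commutator Q).index := rfl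
  have hA9 : Nat.card (Abelianization Q) ≤ 9 := by
    rw [hcA, ← relIndex_top_right]
    exact (relIndex_le_cent (mem_top y') fun s _ =>
      commutator_mem_commutator (mem_top _) (mem_top _)).trans hc'
  have hof : ∀ a b : Q, Abelianization.of a = Abelianization.of b ↔
      a⁻¹ * b ∈ _root_.commutator Q := fun a b => QuotientGroup.eq
  have hnc : ¬ IsCyclic (Abelianization Q) := by
    intro h
    obtain ⟨a, ha⟩ := isCyclic_iff_exists_zpowers_eq_top.1 h
    obtain ⟨g, rfl⟩ : ∃ g : Q, Abelianization.of g = a := QuotientGroup.mk_surjective a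
    have hg : zpowers g = ⊤ := by
      by_contra hg
      obtain ⟨M, hgM, hMn, hM⟩ := exists_index_eq hP hg
      have h1 : _root_.commutator Q ≤ M := by
        rw [← Normal.quotient_commutative_iff_commutator_le]
        exact (isCyclic_of_prime_card (p := 3) hM).isMulCommutative
      have h2 : M = ⊤ := by
        rw [eq_top_iff]
        intro x _
        obtain ⟨i, hi⟩ : Abelianization.of x ∈ zpowers (Abelianization.of g) := ha ▸ mem_top _
        simp only [← map_zpow, hof] at hi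
        exact (M.mul_mem_cancel_left (inv_mem (hgM (zpow_mem_zpowers g i)))).1 (h1 hi)
      rw [h2, index_top] at hM
      omega
    have h3 : (⊤ ⊓ centralizer {y'} : Subgroup Q) = ⊤ := by
      rw [top_inf_eq, eq_top_iff]
      intro x _
      obtain ⟨i, rfl⟩ : x ∈ zpowers g := hg ▸ mem_top _
      obtain ⟨j, hj⟩ : y' ∈ zpowers g := hg ▸ mem_top _
      rw [mem_centralizer_singleton_iff, ← hj]
      exact (Commute.zpow_zpow_self _ _ _).eq
    rw [h3, card_top] at hc'
    omega
  have h9 : Nat.card (Abelianization Q) = 9 := by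
    obtain ⟨k, hk⟩ := hA.exists_card_eq
    rcases k with _ | _ | _ | k
    · have := (Nat.card_eq_one_iff_unique.1 hk).1
      exact absurd isCyclic_of_subsingleton hnc
    · exact absurd (isCyclic_of_prime_card (p := 3) hk) hnc
    · exact hk
    · rw [hk, pow_succ, pow_succ, pow_succ] at hA9
      have := Nat.pos_of_ne_zero (pow_ne_zero k three_ne_zero)
      omega
  have hexp : ∀ a : Abelianization Q, a ^ 3 = 1 := by
    intro a
    by_contra ha
    apply hnc
    have h1 := orderOf_dvd_natCard a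
    rw [h9, show 9 = 3 ^ 2 by norm_num, Nat.dvd_prime_pow Nat.prime_three] at h1
    obtain ⟨k, hk, he⟩ := h1
    interval_cases k
    · exact absurd (by rw [orderOf_eq_one_iff.1 he, one_pow]) ha
    · exact absurd (by rw [← pow_one 3, ← he, pow_orderOf_eq_one]) ha
    · exact isCyclic_of_orderOf_eq_card a (by rw [he, h9]; norm_num)
  have hcl : ∀ x : Q, Abelianization.of x = Abelianization.of y' → x ∈ cl ⊤ y' := by
    have h1 := card_cent_mul (⊤ : Subgroup Q) y'
    have h2 := (_root_.commutator Q).card_mul_index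
    rw [← hcA, h9] at h2
    rw [card_top] at h1
    have h3 : cl ⊤ y' ⊆ (fun c => c * y') '' (_root_.commutator Q : Set Q) := by
      rintro _ ⟨s, -, rfl⟩
      exact ⟨s * y' * s⁻¹ * y'⁻¹, commutator_mem_commutator (mem_top _) (mem_top _), by simp⟩
    have h4 := Set.eq_of_subset_of_ncard_le h3 (by
      rw [Set.ncard_image_of_injective _ (mul_left_injective _)]
      change Nat.card (_root_.commutator Q) ≤ _
      have := Nat.mul_le_mul_right (cl ⊤ y').ncard hc'
      omega)
    intro x hx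
    rw [h4]
    refine ⟨x * y'⁻¹, ?_, by simp⟩
    have : Abelianization.of (x * y'⁻¹) = 1 := by rw [map_mul, map_inv, hx, mul_inv_cancel]
    exact (QuotientGroup.eq_one_iff _).1 this
  have hy1 : Abelianization.of y' ≠ 1 := by
    intro e
    obtain ⟨s, -, hs⟩ := hcl 1 (by rw [e, map_one])
    apply y1
    have : y' = 1 := by simpa [mul_inv_eq_one] using hs
    exact congrArg Subtype.val this
  -- the action of the normaliser on the abelianization
  set N := normalizer (Q : Set G)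
  let _ : MulAction N (Abelianization Q) :=
    { smul := fun n a => Abelianization.map (Q.normalizerMonoidHom n).toMonoidHom a
      one_smul := fun a => by
        obtain ⟨g, rfl⟩ : ∃ g : Q, Abelianization.of g = a := QuotientGroup.mk_surjective a
        change Abelianization.of (Q.normalizerMonoidHom 1 g) = _
        rw [map_one]; rfl
      mul_smul := fun m n a => by
        obtain ⟨g, rfl⟩ : ∃ g : Q, Abelianization.of g = a := QuotientGroup.mk_surjective a
        change Abelianization.of (Q.normalizerMonoidHom (m * n) g) =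
          Abelianization.of (Q.normalizerMonoidHom m (Q.normalizerMonoidHom n g))
        rw [map_mul]; rfl }
  have hsm : ∀ (n : N) (g : Q), n • Abelianization.of g =
      Abelianization.of ⟨n * g * n⁻¹, (mem_normalizer_iff.1 n.2 g).1 g.2⟩ := fun _ _ => rfl
  have hprod : ∀ (n : N) (O : Finset (Abelianization Q)), n • ∏ a ∈ O, a = ∏ a ∈ O, n • a :=
    fun n O => map_prod (Abelianization.map (Q.normalizerMonoidHom n).toMonoidHom) _ _
  let O : Finset (Abelianization Q) := (Set.toFinite (orbit N (Abelianization.of y'))).toFinset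
  have hO : ∀ a, a ∈ O ↔ ∃ n : N, n • Abelianization.of y' = a := fun a => Set.Finite.mem_toFinset _
  have hinv : ∀ (n : N) (a : Abelianization Q), n • a⁻¹ = (n • a)⁻¹ :=
    fun n a => map_inv (Abelianization.map (Q.normalizerMonoidHom n).toMonoidHom) _
  have hτ : ∏ a ∈ O, a ≠ 1 := by
    refine prod_ne_one h9 hexp O ⟨_, (hO _).2 ⟨1, one_smul _ _⟩⟩ ?_ ?_ ?_
    · rw [hO]
      rintro ⟨n, hn⟩
      apply hy1
      rw [smul_eq_iff_eq_inv_smul] at hn
      rw [hn]
      exact map_one (Abelianization.map (Q.normalizerMonoidHom n⁻¹).toMonoidHom)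
    · intro a ha ha'
      obtain ⟨n, rfl⟩ := (hO _).1 ha
      obtain ⟨m, hm⟩ := (hO _).1 ha'
      rw [← hinv, smul_eq_iff_eq_inv_smul, smul_smul, hinv, eq_comm, inv_eq_iff_eq_inv,
        ← inv_eq_iff_eq_inv, hsm, ← map_inv] at hm
      obtain ⟨s, -, hs⟩ := hcl _ hm
      have h1 := congrArg Subtype.val hs
      simp only [coe_mul, coe_inv, y'] at h1
      refine hN ((s : G)⁻¹ * ((m : G)⁻¹ * n)) (mul_mem (inv_mem (le_normalizer s.2))
        (mul_mem (inv_mem m.2) n.2)) ?_
      rw [show (s : G)⁻¹ * ((m : G)⁻¹ * n) * y * ((s : G)⁻¹ * ((m : G)⁻¹ * n))⁻¹ =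
        (s : G)⁻¹ * (((m : G)⁻¹ * n * y * ((m : G)⁻¹ * n)⁻¹)⁻¹)⁻¹ * s by group, ← h1]
      group
    · have h1 : O.card = (stabilizer N (Abelianization.of y')).index := by
        rw [index_stabilizer, Set.ncard_eq_toFinset_card _ (Set.toFinite _)]
      have h2 : Q.subgroupOf N ≤ stabilizer N (Abelianization.of y') := by
        intro n hn
        rw [mem_stabilizer_iff, hsm]
        have : (⟨n * y' * n⁻¹, (mem_normalizer_iff.1 n.2 y').1 y'.2⟩ : Q) =
          ⟨n, hn⟩ * y' * (⟨n, hn⟩ : Q)⁻¹ := rfl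
        rw [this, map_mul, map_mul, map_inv, mul_inv_cancel_comm]
      rw [h1]
      exact fun h => P.not_dvd_index ((h.trans (index_dvd_of_le h2)).trans
        (relIndex_dvd_index_of_le le_normalizer))
  let X : Set (G ⧸ Q) := {x | ∀ p ∈ Q, p • x = x}
  have hXN : ∀ x ∈ X, x.out ∈ N := by
    intro x hx
    rw [← Sylow.mem_fixedPoints_mul_left_cosets_iff_mem_normalizer, QuotientGroup.out_eq']
    exact fun p => hx p p.2
  have hXinv : ∀ n ∈ N, ∀ x ∈ X, n • x ∈ X := by
    intro n hn x hx p hp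
    have := hx _ ((mem_normalizer_iff.1 (inv_mem hn) p).1 hp)
    rw [inv_inv, mul_smul, mul_smul, inv_smul_eq_iff] at this
    exact this
  have hXQ : ∀ p ∈ Q, ∀ x ∈ X, p • x ∈ X := fun p hp => hXinv p (le_normalizer hp)
  have hd : det Abelianization.of X y = 1 := by
    have h1 := det_univ (Abelianization.of (G := Q)) hG y
    have h2 : det (Abelianization.of (G := Q)) Xᶜ y = 1 := by
      refine det_eq_one_of_orb _ (S := Xᶜ) (X := Q) (fun m hm x hx h => hx ?_) fun x hx => ?_
      · simpa using hXQ _ (inv_mem hm) _ h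
      · refine det_orb_eq_one hP hexp _ hy hy3 hc ?_
        simpa [X] using hx
    rw [← Set.union_compl_self X, det,
      finprod_mem_union disjoint_compl_right (Set.toFinite _) (Set.toFinite _)] at h1
    rw [det] at h2
    rw [h2, mul_one] at h1
    exact h1
  let d : Abelianization Q →* Abelianization Q := Abelianization.lift (detHom Abelianization.of Q X hXQ)
  have hd1 : d (∏ a ∈ O, a) = 1 := by
    rw [map_prod]
    refine Finset.prod_eq_one fun a ha => ?_
    obtain ⟨n, rfl⟩ := (hO _).1 ha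
    rw [hsm, ← hd, ← det_conj _ (n : G) (hXQ y hy), finprod_smul (hXinv n n.2)]
    rfl
  have hfix : ∀ n : N, n • ∏ a ∈ O, a = ∏ a ∈ O, a := by
    intro n
    rw [hprod]
    refine Finset.prod_nbij (fun a => n • a) (fun a ha => ?_) (MulAction.injective n).injOn
      (fun a ha => ⟨n⁻¹ • a, ?_, by simp⟩) (fun _ _ => rfl)
    · obtain ⟨m, rfl⟩ := (hO _).1 ha
      exact (hO _).2 ⟨n * m, mul_smul _ _ _⟩
    · obtain ⟨m, rfl⟩ := (hO _).1 ha
      exact (hO _).2 ⟨n⁻¹ * m, mul_smul _ _ _⟩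
  obtain ⟨p, hp⟩ : ∃ g : Q, Abelianization.of g = ∏ a ∈ O, a := QuotientGroup.mk_surjective _
  have hd2 : d (Abelianization.of p) = Abelianization.of p ^ X.ncard := by
    change ∏ᶠ x ∈ X, coc Abelianization.of (p : G) x = _
    rw [finprod_mem_congr rfl (g := fun _ => Abelianization.of p), finprod_mem_eq_finite_toFinset_prod _
      (Set.toFinite X), Finset.prod_const, Set.ncard_eq_toFinset_card _ (Set.toFinite X)]
    intro x hx
    have := hfix (⟨x.out, hXN x hx⟩ : N)⁻¹
    rw [← hp, hsm] at this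
    rw [← this, coc]
    congr 1
    apply Subtype.ext
    simp [hx p p.2, mul_assoc]
  have hX3 : ¬ 3 ∣ X.ncard := by
    have h1 := hP.card_modEq_card_fixedPoints (G ⧸ Q)
    have h2 : fixedPoints Q (G ⧸ Q) = X := by
      ext x
      exact ⟨fun h p hp => h ⟨p, hp⟩, fun h p => h p p.2⟩
    rw [h2] at h1
    intro h
    exact P.not_dvd_index ((h1.dvd_iff dvd_rfl).2 h)
  rw [hp, hd1] at hd2
  apply hτ
  have h1 := orderOf_dvd_of_pow_eq_one hd2.symm
  have h2 := orderOf_dvd_of_pow_eq_one (hexp (∏ a ∈ O, a))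
  rcases (Nat.dvd_prime Nat.prime_three).1 h2 with h | h
  · exact orderOf_eq_one_iff.1 h
  · exact absurd (h ▸ h1) hX3

end Cfsg.Agent.Fix4
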