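import Cfsg.Agent.Fix4.Det

/-!
Fixity four: point stabilisers of odd order divisible by three.
-/

set_option autoImplicit false

namespace Cfsg.Agent.Fix4

open Subgroup MulAction
open scoped Pointwise commutatorElement

variable {G : Type*} [Group G] {Ω : Type*} [MulAction G Ω] [Finite G] [Finite Ω]

/-- The points fixed by a subgroup. -/
def fp (Ω : Type*) [MulAction G Ω] (X : Subgroup G) : Set Ω := {c | ∀ x ∈ X, x • c = c}

omit [Finite G] in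
theorem ncard_fp_modEq {p : ℕ} [Fact p.Prime] {X : Subgroup G} (hX : IsPGroup p X) :
    Nat.card Ω ≡ (fp Ω X).ncard [MOD p] := by
  have h1 := hX.card_modEq_card_fixedPoints Ω
  have h2 : fixedPoints X Ω = fp Ω X := by
    ext x
    exact ⟨fun h p hp => h ⟨p, hp⟩, fun h p => h p p.2⟩
  rw [h2] at h1
  exact h1

omit [Finite G] [Finite Ω] in
theorem fp_zpowers (x : G) : fp Ω (zpowers x) = fixedBy Ω x := by
  ext c
  exact ⟨fun h => h x (mem_zpowers x), fun h y hy =>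
    (zpowers_le.2 (mem_stabilizer_iff.2 h) : zpowers x ≤ _) hy⟩

omit [Finite G] in
theorem ncard_fixedBy_modEq {p : ℕ} [Fact p.Prime] {X : Subgroup G} (hX : IsPGroup p X) {x : G}
    (hx : x ∈ X) : Nat.card Ω ≡ (fixedBy Ω x).ncard [MOD p] := by
  rw [← fp_zpowers]
  exact ncard_fp_modEq (hX.to_le (zpowers_le.2 hx))

omit [Finite G] [Finite Ω] in
theorem fp_subset {X : Subgroup G} {x : G} (hx : x ∈ X) : fp Ω X ⊆ fixedBy Ω x :=
  fun _ h => h x hx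

theorem fix_of_odd {h : G} (ho : Odd (orderOf h)) {Γ : Set Ω} (hΓ : Γ.ncard ≤ 3)
    (hh : h ∈ stabilizer G Γ) {c : Ω} (hc : c ∈ Γ) (hhc : h • c = c) : ∀ d ∈ Γ, h • d = d := by
  intro d hd
  by_cases hdc : d = c
  · rw [hdc, hhc]
  have h1 : orb (zpowers h) d ⊆ Γ \ {c} := by
    refine orb_subset (Γ := Γ \ {c})
      (fun x hx e he => ⟨smul_mem_of_stab (zpowers_le.2 hh hx) he.1, fun h' => ?_⟩) ⟨hd, hdc⟩
    have h2 : x • c = c := (zpowers_le.2 (mem_stabilizer_iff.2 hhc) : zpowers h ≤ _) hx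
    exact he.2 (MulAction.injective x (h'.trans h2.symm))
  have h2 := Set.ncard_le_ncard h1
  rw [Set.ncard_sdiff_singleton_of_mem hc] at h2
  have h3 := card_stab_mul (zpowers h) d
  rw [Nat.card_zpowers] at h3
  have h4 : Odd (orb (zpowers h) d).ncard := ho.of_dvd_nat (Dvd.intro_left _ h3)
  have h5 : (orb (zpowers h) d).ncard = 1 := by
    obtain ⟨k, hk⟩ := h4
    omega
  obtain ⟨e, he⟩ := Set.ncard_eq_one.1 h5
  have h6 := he ▸ mem_orb_self (zpowers h) d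
  have h7 := he ▸ smul_mem_orb (mem_zpowers h) d
  exact h7.trans h6.symm

omit [Finite G] in
theorem exists_cube_fix {h : G} {Γ : Set Ω} (hΓ : Γ.ncard = 3) (hh : h ∈ stabilizer G Γ) :
    ∃ c ∈ Γ, h ^ 3 • c = c := by
  obtain ⟨e, φ, -, hr, hφ⟩ := exists_permHom (stabilizer G Γ) hΓ
    (fun x hx c hc => smul_mem_of_stab hx hc)
  have key : ∀ σ : Equiv.Perm (Fin 3), ∃ i, (σ ^ 3) i = i := by decide
  obtain ⟨i, hi⟩ := key (φ ⟨h, hh⟩)
  refine ⟨e i, hr ▸ Set.mem_range_self i, ?_⟩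
  have := hφ (⟨h, hh⟩ ^ 3) i
  rwa [map_pow, hi] at this

theorem three_case [FaithfulSMul G Ω] [IsPretransitive G Ω] (hG : _root_.commutator G = ⊤)
    (hfix : ∀ g : G, g ≠ 1 → (fixedBy Ω g).ncard ≤ 4)
    (hodd : ∀ (b : Ω) (g : G), g • b = b → Odd (orderOf g)) {a : Ω}
    (h3 : 3 ∣ Nat.card (stabilizer G a)) (P : Sylow 3 G) :
    (∃ H : Subgroup G, H ≠ ⊤ ∧ 3 ∣ Nat.card H ∧
      ∀ g : G, g ∉ H → ¬ 3 ∣ Nat.card ↥(H ⊓ H.map (MulAut.conj g).toMonoidHom)) ∨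
    (Nat.card P = 9 ∧ ∀ x ∈ (P : Subgroup G), x ^ 3 = 1) := by
  have : Fact (Nat.Prime 3) := ⟨Nat.prime_three⟩
  set Q : Subgroup G := (P : Subgroup G) with hQ
  have hP : IsPGroup 3 Q := P.isPGroup'
  set Λ := fp Ω Q
  by_cases hA : ∀ x ∈ Q, x ≠ 1 → fixedBy Ω x ⊆ Λ
  · left
    obtain ⟨x0, hx0⟩ := exists_prime_orderOf_dvd_card' 3 h3
    rw [← orderOf_coe] at hx0
    obtain ⟨h, -, hh⟩ := exists_conj_mem_sylow P le_top (mem_top (x0 : G)) (k := 1)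
      (by rw [pow_one, ← hx0, pow_orderOf_eq_one])
    have h1 : h * x0 * h⁻¹ ≠ 1 := by
      intro e
      rw [mul_inv_eq_one, mul_eq_left] at e
      rw [e, orderOf_one] at hx0
      omega
    refine strongly_embedded P (fun e => h1 (mem_bot.1 (e ▸ hh))) (Λ := Λ)
      ⟨h • a, hA _ hh h1 (mem_fixedBy_conj.2 x0.2)⟩
      fun x hx h1 => (hA x hx h1).antisymm (fp_subset hx)
  have hΛ : Nat.card Ω ≡ Λ.ncard [MOD 3] := ncard_fp_modEq hP
  have F0 : ∀ {S : Set Ω} {c : Ω}, Λ ⊆ S → c ∈ S → c ∉ Λ → S.ncard ≤ 4 →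
      Nat.card Ω ≡ S.ncard [MOD 3] → S.ncard = Λ.ncard + 3 := by
    intro S c h1 h2 h3 h4 h5
    have h6 := Set.ncard_lt_ncard (s := Λ) (t := S) ⟨h1, fun h => h3 (h h2)⟩
    have h7 := hΛ.symm.trans h5
    unfold Nat.ModEq at h7
    omega
  have F1 : ∀ x ∈ Q, x ≠ 1 → ∀ c ∉ Λ, x • c = c → (fixedBy Ω x).ncard = Λ.ncard + 3 :=
    fun x hx h1 c hc h => F0 (fp_subset hx) h hc (hfix x h1) (ncard_fixedBy_modEq hP hx)
  have F1' : ∀ x ∈ Q, (fixedBy Ω x).ncard = Λ.ncard + 3 → ∃ c ∉ Λ, x • c = c := by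
    intro x _ h
    obtain ⟨c, hc, hc'⟩ := Set.exists_mem_notMem_of_ncard_lt_ncard
      (show Λ.ncard < (fixedBy Ω x).ncard by omega)
    exact ⟨c, hc', hc⟩
  have F2 : ∀ x ∈ Q, x ≠ 1 → ∀ c ∉ Λ, x • c = c → (fixedBy Ω x \ Λ).ncard = 3 := by
    intro x hx h1 c hc h
    rw [Set.ncard_sdiff (show Λ ⊆ _ from fp_subset hx), F1 x hx h1 c hc h]; omega
  have F6 : ∀ x ∈ Q, x ≠ 1 → ∀ c ∉ Λ, x • c = c → fixedBy Ω x = fp Ω (Q ⊓ stabilizer G c) := by
    intro x hx h1 c hc h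
    have h2 : fp Ω (Q ⊓ stabilizer G c) ⊆ fixedBy Ω x := fp_subset ⟨hx, h⟩
    refine (Set.eq_of_subset_of_ncard_le h2 ?_).symm
    rw [F1 x hx h1 c hc h, F0 (c := c) (S := fp Ω (Q ⊓ stabilizer G c))
      (fun d hd y hy => hd y hy.1) (fun y hy => hy.2) hc
      ((Set.ncard_le_ncard h2).trans (hfix x h1)) (ncard_fp_modEq (hP.to_le inf_le_left))]
  have hΛinv : ∀ n ∈ normalizer (Q : Set G), n ∈ stabilizer G Λ := by
    intro n hn
    refine mem_stab_set fun c hc p hp => ?_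
    have := hc _ ((mem_normalizer_iff.1 (inv_mem hn) p).1 hp)
    rwa [inv_inv, mul_smul, mul_smul, inv_smul_eq_iff] at this
  have hdiff : ∀ {g : G} {S : Set Ω}, g ∈ stabilizer G S → g ∈ stabilizer G Λ →
      g ∈ stabilizer G (S \ Λ) := fun h1 h2 => mem_stab_set fun c hc =>
    ⟨smul_mem_of_stab h1 hc.1, fun h => hc.2 (mem_of_smul_mem_of_stab h2 h)⟩
  have hQΛ : ∀ p ∈ Q, p ∈ stabilizer G Λ := fun p hp => hΛinv p (le_normalizer hp)
  have hne : ∀ c ∉ Λ, Q ⊓ stabilizer G c ≠ Q := fun c hc e => hc fun y hy => (e.ge hy).2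
  by_cases hB : ∃ x ∈ Q, x ≠ 1 ∧ (∃ c ∉ Λ, x • c = c) ∧ Q ⊓ stabilizer G (fixedBy Ω x) ≠ Q
  · exfalso
    obtain ⟨x, hx, x1, ⟨c, hc, hxc⟩, hL⟩ := hB
    set Δ := fixedBy Ω x
    set L := Q ⊓ stabilizer G Δ
    set K := Q ⊓ stabilizer G c
    have hKΔ : ∀ k ∈ K, k ≠ 1 → fixedBy Ω k = Δ := fun k hk k1 =>
      (F6 k hk.1 k1 c hc hk.2).trans (F6 x hx x1 c hc hxc).symm
    have hKL : K ≤ L := fun k hk => ⟨hk.1, mem_stab_set fun d hd => by
      by_cases k1 : k = 1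
      · rw [k1, one_smul]; exact hd
      · have : k • d = d := (hKΔ k hk k1).ge hd
        rw [this]; exact hd⟩
    have hLinv : ∀ l ∈ L, ∀ d ∈ Δ \ Λ, l • d ∈ Δ \ Λ := fun l hl d hd =>
      smul_mem_of_stab (hdiff hl.2 (hQΛ l hl.1)) hd
    have hLK : Nat.card L ≤ Nat.card K * 3 := by
      have := card_le_mul hLinv (b := c) ⟨hxc, hc⟩
      rw [F2 x hx x1 c hc hxc] at this
      exact this.trans (Nat.mul_le_mul_right _ (card_le_of_le (inf_le_inf_right _ inf_le_left)))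
    obtain ⟨w, hw, hwL, -, hw'⟩ := exists_normalizes hP inf_le_left hL
    have hK3 : Nat.card K ≤ 3 := by
      have h1 := card_le_mul (X := K) (Γ := w • (Δ \ Λ)) (b := w • c) (by
        rintro k hk _ ⟨d, hd, rfl⟩
        exact ⟨_, hLinv _ (hw' k (hKL hk)) d hd, by simp [mul_smul]⟩) ⟨c, ⟨hxc, hc⟩, rfl⟩
      have h2 : K ⊓ stabilizer G (w • c) = ⊥ := by
        rw [eq_bot_iff]
        intro k hk
        by_contra k1
        apply hwL
        have h3 : w⁻¹ * k * w⁻¹⁻¹ ∈ K := mem_inf.2 ⟨mul_mem (mul_mem (inv_mem hw) hk.1.1)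
          (inv_mem (inv_mem hw)), by
            have : k • w • c = w • c := hk.2
            rw [mem_stabilizer_iff, inv_inv, mul_smul, mul_smul, this, inv_smul_smul]⟩
        have h4 := hKΔ _ h3 (fun e => k1 (conj_eq_one_iff.1 e))
        rw [← smul_fixedBy, hKΔ k hk.1 k1] at h4
        exact ⟨hw, (inv_mem_iff (H := stabilizer G Δ)).1 h4⟩
      rwa [h2, card_bot, one_mul, Set.ncard_smul_set, F2 x hx x1 c hc hxc] at h1
    have hxK : x ∈ K := ⟨hx, hxc⟩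
    have hdx := dvd_orderOf_of_mem hP hx x1
    have hox : orderOf x = 3 := le_antisymm
      ((Nat.le_of_dvd Nat.card_pos (K.orderOf_dvd_natCard hxK)).trans hK3)
      (Nat.le_of_dvd (orderOf_pos x) hdx)
    have hK3' : 3 ≤ Nat.card K := hox ▸ Nat.le_of_dvd Nat.card_pos (K.orderOf_dvd_natCard hxK)
    have h1 : 3 * Nat.card L ≤ Nat.card Q := mul_card_le hP inf_le_left hL
    have h2 : 3 * Nat.card K ≤ Nat.card L := mul_card_le (hP.to_le inf_le_left) hKL (by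
      obtain ⟨v, hv, hvK, hv', -⟩ := exists_normalizes hP inf_le_left (hne c hc)
      intro e
      apply hvK
      change v ∈ K
      rw [e]
      refine ⟨hv, ?_⟩
      have := hKΔ _ (hv' x hxK) (fun e => x1 (conj_eq_one_iff.1 e))
      rwa [← smul_fixedBy] at this)
    refine false_of_maxClass hG P hx (by rw [← hox, pow_orderOf_eq_one]) x1 ?_
      (by change 9 < Nat.card Q; omega) fun n hn hinv => ?_
    · refine (card_le_of_le (H := Q ⊓ centralizer {x}) (K := L)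
        (fun s hs => ⟨hs.1, ?_⟩)).trans (by omega)
      exact smul_fixedBy_of_commute (mem_centralizer_singleton_iff.1 hs.2)
    · have h3 : n ∈ stabilizer G (Δ \ Λ) := hdiff (by
        rw [mem_stabilizer_iff, smul_fixedBy, hinv, fixedBy_inv]) (hΛinv n hn)
      obtain ⟨d, -, hd⟩ := exists_cube_fix (F2 x hx x1 c hc hxc) h3
      have h4 := hodd d _ hd
      have h5 : ∀ k : ℕ, (n ^ 3) ^ (2 * k + 1) * x * ((n ^ 3) ^ (2 * k + 1))⁻¹ = x⁻¹ := by
        have e1 : n * x⁻¹ * n⁻¹ = x := by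
          rw [show n * x⁻¹ * n⁻¹ = (n * x * n⁻¹)⁻¹ by group, hinv, inv_inv]
        have e2 : n * n * x * (n * n)⁻¹ = x := by
          rw [show n * n * x * (n * n)⁻¹ = n * (n * x * n⁻¹) * n⁻¹ by group, hinv, e1]
        have e3 : Commute (n * n) x := mul_inv_eq_iff_eq_mul.1 e2
        intro k
        rw [← pow_mul, show 3 * (2 * k + 1) = 1 + 2 * (3 * k + 1) by ring, pow_add, pow_mul,
          pow_one, pow_two, mul_assoc n, (e3.pow_left _).eq, ← hinv]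
        group
      obtain ⟨k, hk⟩ := h4
      have h6 := h5 k
      rw [← hk, pow_orderOf_eq_one, one_mul, inv_one, mul_one] at h6
      have h7 : x ^ 2 = 1 := by rw [pow_two]; exact mul_eq_one_iff_eq_inv.2 h6
      have := orderOf_dvd_of_pow_eq_one h7
      rw [hox] at this
      omega
  push Not at hA hB
  have hB' : ∀ x ∈ Q, x ≠ 1 → ∀ c ∉ Λ, x • c = c → ∀ p ∈ Q, p ∈ stabilizer G (fixedBy Ω x \ Λ) :=
    fun x hx x1 c hc hxc p hp => hdiff ((hB x hx x1 ⟨c, hc, hxc⟩).ge hp).2 (hQΛ p hp)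
  obtain ⟨x, hx, x1, hxΛ⟩ := hA
  obtain ⟨c, hxc, hc⟩ := Set.not_subset.1 hxΛ
  set Δ := fixedBy Ω x
  have hΓ := F2 x hx x1 c hc hxc
  by_cases hC : ∃ x' ∈ Q, x' ≠ 1 ∧ (∃ c ∉ Λ, x' • c = c) ∧ fixedBy Ω x' ≠ Δ
  · right
    obtain ⟨x', hx', x1', ⟨c', hc', hxc'⟩, hne'⟩ := hC
    have hbot : ∀ k ∈ Q, k • c = c → k • c' = c' → k = 1 := by
      intro k hk h1 h2
      by_contra k1
      exact hne' (((F6 x' hx' x1' c' hc' hxc').trans (F6 k hk k1 c' hc' h2).symm).trans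
        ((F6 k hk k1 c hc h1).trans (F6 x hx x1 c hc hxc).symm))
    have h1 := card_le_mul (X := Q ⊓ stabilizer G c) (fun k hk d hd =>
      smul_mem_of_stab (hB' x' hx' x1' c' hc' hxc' k hk.1) hd) (b := c') ⟨hxc', hc'⟩
    rw [(eq_bot_iff (a := Q ⊓ stabilizer G c ⊓ stabilizer G c')).2 (fun k hk =>
      hbot k hk.1.1 hk.1.2 hk.2), card_bot, F2 x' hx' x1' c' hc' hxc'] at h1
    have h2 := card_le_mul (X := Q) (fun k hk d hd =>
      smul_mem_of_stab (hB' x hx x1 c hc hxc k hk) hd) (b := c) ⟨hxc, hc⟩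
    rw [hΓ] at h2
    have h3 := mul_card_le hP inf_le_left (hne c hc)
    have h4 : 3 ≤ Nat.card ↥(Q ⊓ stabilizer G c) := Nat.le_of_dvd Nat.card_pos
      ((dvd_orderOf_of_mem hP hx x1).trans ((Q ⊓ stabilizer G c).orderOf_dvd_natCard ⟨hx, hxc⟩))
    refine ⟨by omega, fun p hp => hbot _ (pow_mem hp 3) ?_ ?_⟩
    · have h5 := hB' x hx x1 c hc hxc p hp
      obtain ⟨d, hd, hd'⟩ := exists_cube_fix hΓ h5
      exact fix_of_odd (hodd d _ hd') hΓ.le (pow_mem h5 3) hd hd' c ⟨hxc, hc⟩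
    · have h5 := hB' x' hx' x1' c' hc' hxc' p hp
      obtain ⟨d, hd, hd'⟩ := exists_cube_fix (F2 x' hx' x1' c' hc' hxc') h5
      exact fix_of_odd (hodd d _ hd') (F2 x' hx' x1' c' hc' hxc').le (pow_mem h5 3) hd hd' c'
        ⟨hxc', hc'⟩
  exfalso
  push Not at hC
  have hcount : ∀ v ∈ Q, ∀ v' ∈ Q, v ≠ 1 → IsConj v v' → fixedBy Ω v = Δ → fixedBy Ω v' = Δ := by
    intro v hv v' hv' v1 hcj h
    refine hC v' hv' (fun e => v1 (isConj_one_left.1 (e ▸ hcj))) (F1' v' hv' ?_)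
    rw [ncard_fixedBy_isConj hcj, h, F1 x hx x1 c hc hxc]
  have hQΔ : Q ≤ stabilizer G Δ := fun p hp => ((hB x hx x1 ⟨c, hc, hxc⟩).ge hp).2
  have hfixc : ∀ v ∈ Q, v ≠ 1 → v • c = c → fixedBy Ω v = Δ := fun v hv v1 h =>
    hC v hv v1 ⟨c, hc, h⟩
  have hconj : ∀ v ∈ Q, ∀ v' ∈ Q, IsConj v v' → v • c = c → v' • c = c := by
    intro v hv v' hv' hcj h
    by_cases v1 : v = 1
    · rw [v1, isConj_one_right] at hcj
      rw [hcj, one_smul]
    · exact (hcount v hv v' hv' v1 hcj (hfixc v hv v1 h)).ge hxc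
  have hnorm : ((stabilizer G c).subgroupOf Q).Normal :=
    ⟨fun v hv g => hconj v v.2 _ (g * v * g⁻¹).2 (isConj_iff.2 ⟨g, rfl⟩) hv⟩
  obtain ⟨z, hzc, hz3, hzZ⟩ := LinP.exists_central_of_normal hP ((stabilizer G c).subgroupOf Q)
    (fun e => x1 (congrArg Subtype.val (mem_bot.1 (e.le
      (show (⟨x, hx⟩ : Q) ∈ (stabilizer G c).subgroupOf Q from hxc)))))
  have hzc' : ∀ v ∈ Q, (z : G) * v = v * z := fun v hv =>
    congrArg Subtype.val (mem_center_iff.1 hzZ ⟨v, hv⟩).symm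
  rw [← orderOf_coe] at hz3
  have z3 : (z : G) ^ 3 = 1 := by rw [← hz3, pow_orderOf_eq_one]
  have z1 : (z : G) ≠ 1 := fun e => by rw [e, orderOf_one] at hz3; omega
  have hzΔ := hfixc z z.2 z1 hzc
  have F7 : ∀ g : G, (z : G) • g • Δ = g • Δ → g • Δ = Δ := by
    intro g hg
    have h1 : g⁻¹ * z * g⁻¹⁻¹ ∈ stabilizer G Δ := by
      rw [mem_stabilizer_iff, inv_inv, mul_smul, mul_smul, hg, inv_smul_smul]
    obtain ⟨h, hh, hv⟩ := exists_conj_mem_sylow P hQΔ h1 (k := 1)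
      (by rw [pow_one, conj_pow, z3]; group)
    have h2 := hcount z z.2 _ hv z1 ((isConj_iff.2 ⟨g⁻¹, rfl⟩).trans (isConj_iff.2 ⟨h, rfl⟩)) hzΔ
    rw [← smul_fixedBy, ← smul_fixedBy, hzΔ, smul_eq_iff_eq_inv_smul,
      mem_stabilizer_iff.1 (inv_mem hh), inv_smul_eq_iff] at h2
    exact h2.symm
  refine hne c hc (le_antisymm inf_le_left (le_inf le_rfl ?_))
  have h2 := commutator_inf_eq_focalSubgroup P
  rw [hG, top_inf_eq] at h2
  rw [hQ, h2, focalSubgroup_def, closure_le]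
  rintro g ⟨hg, v, hv, u, rfl⟩
  have h3 : ⁅v, u⁆ = v * (u * v * u⁻¹)⁻¹ := by rw [commutatorElement_def]; group
  have hv' : u * v * u⁻¹ ∈ Q := by
    rw [h3] at hg
    exact inv_mem_iff.1 ((Subgroup.mul_mem_cancel_left _ hv).1 hg)
  change ⁅v, u⁆ • c = c
  rw [h3, mul_smul]
  by_cases hvc : v • c = c
  · have := hconj v hv _ hv' (isConj_iff.2 ⟨u, rfl⟩) hvc
    rw [inv_smul_eq_iff.2 this.symm, hvc]
  have hfΛ : ∀ w ∈ Q, w • c ≠ c → fixedBy Ω w = Λ := by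
    intro w hw hwc
    refine Set.Subset.antisymm (fun d hd => ?_) (fp_subset hw)
    by_contra hd'
    exact hwc ((hC w hw (fun e => hwc (by rw [e, one_smul])) ⟨d, hd', hd⟩).ge hxc)
  obtain ⟨y, hy, hyΔ⟩ := exists_smul_eq_of_unique_fixed (Ω := Set Ω) (p := 3)
    (Y := centralizer {v}) (b := Δ) (b' := u⁻¹ • Δ) (z := z) (z' := u⁻¹ * z * u⁻¹⁻¹)
    (mem_centralizer_singleton_iff.2 (hzc' v hv)) (mem_centralizer_singleton_iff.2 (by
      have := hzc' _ hv'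
      calc u⁻¹ * z * u⁻¹⁻¹ * v = u⁻¹ * (z * (u * v * u⁻¹)) * u := by group
        _ = _ := by rw [this]; group)) z3 (by rw [conj_pow, z3]; group) (by
      rintro _ ⟨g, -, rfl⟩
      exact ⟨F7 g, fun h => by rw [h]; exact hQΔ z.2⟩) (by
      rintro _ ⟨g, -, rfl⟩ h
      rw [inv_inv, mul_smul, mul_smul, inv_smul_eq_iff, ← mul_smul u g] at h
      rw [eq_inv_smul_iff, ← mul_smul]
      exact F7 _ h)
  rw [mem_centralizer_singleton_iff] at hy
  have hh : u * y * v * (u * y)⁻¹ = u * v * u⁻¹ := by rw [mul_assoc u, hy]; group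
  have hΓh : u * y ∈ stabilizer G (Δ \ Λ) := by
    refine hdiff (by rw [mem_stabilizer_iff, mul_smul, hyΔ, smul_inv_smul]) ?_
    rw [mem_stabilizer_iff]
    conv_lhs => rw [← hfΛ v hv hvc]
    rw [smul_fixedBy, hh]
    exact hfΛ _ hv' fun e => hvc (hconj _ hv' v hv (isConj_iff.2 ⟨u, rfl⟩).symm e)
  have hΓQ := hB' x hx x1 c hc hxc
  have horb : orb (zpowers v) c = Δ \ Λ := by
    have h1 : orb (zpowers v) c ⊆ Δ \ Λ := orb_subset (fun p hp d hd =>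
      smul_mem_of_stab (hΓQ p (zpowers_le.2 hv hp)) hd) ⟨hxc, hc⟩
    refine Set.eq_of_subset_of_ncard_le h1 ?_
    obtain ⟨k, hk⟩ := exists_ncard_orb (hP.to_le (zpowers_le.2 hv)) c
    rw [hΓ, hk]
    rcases k with _ | k
    · obtain ⟨e, he⟩ := Set.ncard_eq_one.1 hk
      exact absurd ((he.le (smul_mem_orb (mem_zpowers v) c)).trans
        (he.le (mem_orb_self (zpowers v) c)).symm) hvc
    · exact Nat.le_self_pow (Nat.succ_ne_zero k) 3
  obtain ⟨p, hp, hpc⟩ : (u * y) • c ∈ orb (zpowers v) c :=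
    horb ▸ smul_mem_of_stab hΓh ⟨hxc, hc⟩
  have hpQ := zpowers_le.2 hv hp
  have hk : (p⁻¹ * (u * y)) • c = c := by rw [mul_smul, ← hpc, inv_smul_smul]
  have hfixΓ := fix_of_odd (hodd c _ hk) hΓ.le (mul_mem (inv_mem (hΓQ p hpQ)) hΓh) ⟨hxc, hc⟩ hk
  have hact : ∀ d ∈ Δ \ Λ, (u * y) • d = p • d := fun d hd => by
    have := hfixΓ d hd
    rwa [mul_smul, inv_smul_eq_iff] at this
  have e1 : p⁻¹ • c ∈ Δ \ Λ := smul_mem_of_stab (hΓQ _ (inv_mem hpQ)) ⟨hxc, hc⟩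
  have e2 : (u * y)⁻¹ • c = p⁻¹ • c := by rw [inv_smul_eq_iff, hact _ e1, smul_inv_smul]
  obtain ⟨i, rfl⟩ := hp
  rw [← hh, show (u * y * v * (u * y)⁻¹)⁻¹ = u * y * v⁻¹ * (u * y)⁻¹ by group, mul_smul, mul_smul,
    e2, hact _ (smul_mem_of_stab (hΓQ _ (inv_mem hv)) e1), smul_smul, smul_smul, smul_smul]
  simp only
  rw [show v * v ^ i * v⁻¹ * (v ^ i)⁻¹ = 1 by group, one_smul]

end Cfsg.Agent.Fix4
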