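import Cfsg.Agent.Fix4.Three
import Cfsg.Agent.Block.BSArith
import Cfsg.Agent.PSL2Rec.TwoFix
import Cfsg.Prelude.Def_Involutions

/-!
Fixity four: `2`-groups acting with few fixed points.
-/

set_option autoImplicit false

namespace Cfsg.Agent.Fix4

open Subgroup MulAction
open scoped Pointwise

variable {G : Type*} [Group G] {Ω : Type*} [MulAction G Ω] [Finite G] [Finite Ω]

/-- The points whose stabiliser in `U` is non-trivial. -/
def nr (Ω : Type*) [MulAction G Ω] (U : Subgroup G) : Set Ω := {c | ∃ x ∈ U, x ≠ 1 ∧ x • c = c}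

omit [Finite G] [Finite Ω] in
theorem smul_mem_nr {U : Subgroup G} {x : G} (hx : x ∈ U) {c : Ω} (hc : c ∈ nr Ω U) :
    x • c ∈ nr Ω U := by
  obtain ⟨y, hy, y1, h⟩ := hc
  exact ⟨x * y * x⁻¹, mul_mem (mul_mem hx hy) (inv_mem hx), fun e => y1 (conj_eq_one_iff.1 e),
    mem_fixedBy_conj.2 h⟩

theorem orb_cases {X : Subgroup G} (hX : IsPGroup 2 X) {b : Ω} (h : (orb X b).ncard ≤ 4) :
    (orb X b).ncard = 1 ∨ (orb X b).ncard = 2 ∨ (orb X b).ncard = 4 := by
  obtain ⟨k, hk⟩ := exists_ncard_orb hX b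
  rw [hk] at h ⊢
  rcases k with _ | _ | _ | k
  · simp
  · simp
  · simp
  · rw [pow_succ, pow_succ, pow_succ] at h
    have := Nat.pos_of_ne_zero (pow_ne_zero k two_ne_zero)
    omega

omit [Finite G] [Finite Ω] in
theorem mem_fp_of_orb {X : Subgroup G} {b : Ω} (h : (orb X b).ncard = 1) : b ∈ fp Ω X := by
  obtain ⟨e, he⟩ := Set.ncard_eq_one.1 h
  exact fun x hx => (he.le (smul_mem_orb hx b)).trans (he.le (mem_orb_self X b)).symm

omit [Finite G] [Finite Ω] in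
theorem fix_orb_of_two {X : Subgroup G} {c : Ω} (h : (orb X c).ncard = 2) {d : G} (hd : d ∈ X)
    (hdc : d • c = c) : orb X c ⊆ fixedBy Ω d := by
  obtain ⟨u, v, huv, he⟩ := Set.ncard_eq_two.1 h
  intro e he'
  by_cases hec : e = c
  · rw [hec]; exact hdc
  have h1 : d • e ∈ orb X c := by
    obtain ⟨x, hx, rfl⟩ := he'
    exact ⟨d * x, mul_mem hd hx, mul_smul _ _ _⟩
  have h2 : d • e ≠ c := fun h => hec (MulAction.injective d (h.trans hdc.symm))
  have h3 := mem_orb_self X c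
  rw [he] at he' h1 h3
  rw [mem_fixedBy]
  simp only [Set.mem_insert_iff, Set.mem_singleton_iff] at he' h1 h3
  grind

omit [Finite G] in
theorem eq_one_of_lt {X : Subgroup G} {k : ℕ} (hfix : ∀ x ∈ X, x ≠ 1 → (fixedBy Ω x).ncard ≤ k)
    {x : G} (hx : x ∈ X) {S : Set Ω} (hS : S ⊆ fixedBy Ω x) (hk : k < S.ncard) : x = 1 := by
  by_contra h
  have := (Set.ncard_le_ncard hS).trans (hfix x hx h)
  omega

theorem card_le_of_orb {X U : Subgroup G} (h : X ≤ U) (c : Ω) {m : ℕ} (hm : (orb U c).ncard ≤ m) :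
    Nat.card X ≤ Nat.card ↥(X ⊓ stabilizer G c) * m := by
  rw [← card_stab_mul X c]
  refine Nat.mul_le_mul_left _ (le_trans (Set.ncard_le_ncard ?_) hm)
  rintro _ ⟨x, hx, rfl⟩
  exact ⟨x, h hx, rfl⟩

theorem card_cent_le (R : Subgroup G) {s : G} {b : Ω} (hb : s • b = b) :
    Nat.card ↥(R ⊓ centralizer {s}) ≤
      Nat.card ↥(R ⊓ stabilizer G b ⊓ centralizer {s}) * (fixedBy Ω s).ncard := by
  have := card_le_mul (X := R ⊓ centralizer {s}) (Γ := fixedBy Ω s) (b := b) (fun x hx c hc =>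
    smul_mem_fixedBy_of_commute (mem_centralizer_singleton_iff.1 hx.2) hc) hb
  rwa [inf_right_comm] at this

theorem exists_conj_set {R : Subgroup G} (hR : IsPGroup 2 R) {b : Ω} {Γ : Set Ω} (hb : b ∈ Γ)
    (hΓ : Γ.ncard < (orb R b).ncard) (hT : ∀ x ∈ R ⊓ stabilizer G b, ∀ c ∈ Γ, x • c ∈ Γ) :
    ∃ Γ' : Set Ω, Γ'.ncard = Γ.ncard ∧ (∀ x ∈ R ⊓ stabilizer G b, ∀ c ∈ Γ', x • c ∈ Γ') ∧
      ∃ c ∈ Γ', c ∉ Γ := by
  obtain ⟨w, hw, hwL, -, hw'⟩ := exists_normalizes hR (inf_le_left : R ⊓ stabilizer G Γ ≤ R) (by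
    intro e
    have := Set.ncard_le_ncard (orb_subset (X := R)
      (fun x hx c hc => smul_mem_of_stab (e.ge hx).2 hc) hb)
    omega)
  refine ⟨w • Γ, Set.ncard_smul_set _ _, ?_, ?_⟩
  · rintro x hx _ ⟨c, hc, rfl⟩
    exact ⟨_, smul_mem_of_stab (hw' x ⟨hx.1, mem_stab_set (hT x hx)⟩).2 hc, by simp [mul_smul]⟩
  · by_contra h
    push Not at h
    exact hwL ⟨hw, mem_stab_set fun c hc => h _ (Set.smul_mem_smul_set hc)⟩

theorem two_le_ncard_fp {R : Subgroup G} (hR : IsPGroup 2 R) {b : Ω} (h : 1 < (orb R b).ncard) :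
    2 ≤ (fp Ω (R ⊓ stabilizer G b)).ncard := by
  obtain ⟨w, hw, hwL, -, hw'⟩ := exists_normalizes hR (inf_le_left : R ⊓ stabilizer G b ≤ R) (by
    intro e
    have := Set.ncard_le_ncard (orb_subset (X := R) (Γ := {b})
      (fun x hx c hc => by rw [hc]; exact (e.ge hx).2) rfl)
    rw [Set.ncard_singleton] at this
    omega)
  have h1 : ({b, w • b} : Set Ω) ⊆ fp Ω (R ⊓ stabilizer G b) := by
    rintro _ (rfl | rfl) x hx
    · exact hx.2
    · have : (w⁻¹ * x * w) • b = b := (hw' x hx).2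
      rwa [mul_smul, mul_smul, inv_smul_eq_iff] at this
  have h2 := Set.ncard_le_ncard h1
  rwa [Set.ncard_pair (fun e => hwL ⟨hw, e.symm⟩)] at h2

omit [Finite G] in
theorem four_le_ncard {T : Subgroup G} {c : Ω} (hc : c ∉ fp Ω T) (h : 2 ≤ (fp Ω T).ncard)
    (h2 : (orb T c).ncard = 2) : 4 ≤ (fp Ω T ∪ orb T c).ncard := by
  rw [Set.ncard_union_eq]
  · omega
  · refine Set.disjoint_left.2 ?_
    rintro _ h ⟨x, hx, rfl⟩
    apply hc
    have := h _ (inv_mem hx)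
    rw [inv_smul_smul] at this
    rwa [this]

theorem card_le_four_of_le {X : Subgroup G} (hX : IsPGroup 2 X) (h : Nat.card X < 8) :
    Nat.card X ≤ 4 := by
  obtain ⟨k, hk⟩ := hX.exists_card_eq
  rw [hk] at h ⊢
  have : k < 3 := (Nat.pow_lt_pow_iff_right one_lt_two).1 h
  exact Nat.pow_le_pow_right two_pos (show k ≤ 2 by omega)

theorem exists_cent_four {R : Subgroup G} (hR : IsPGroup 2 R)
    (hfix : ∀ x ∈ R, x ≠ 1 → (fixedBy Ω x).ncard ≤ 3) {b : Ω} (hb : b ∈ nr Ω R)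
    (h : 3 < (orb R b).ncard) :
    ∃ s ∈ R, s * s = 1 ∧ s ≠ 1 ∧ Nat.card ↥(R ⊓ centralizer {s}) ≤ 4 := by
  obtain ⟨s, hs, s1, hsb⟩ := hb
  set T := R ⊓ stabilizer G b
  have hT : IsPGroup 2 T := hR.to_le inf_le_left
  have h1 : (fp Ω T).ncard ≤ 3 :=
    (Set.ncard_le_ncard (fp_subset (show s ∈ T from ⟨hs, hsb⟩))).trans (hfix s hs s1)
  obtain ⟨Γ, hΓ, hinv, c, hc, hc'⟩ := exists_conj_set hR (Γ := fp Ω T) (b := b)
    (fun x hx => hx.2) (by omega) (fun x hx c hc => by rwa [hc x hx])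
  have h2 : (orb T c).ncard ≤ Γ.ncard := Set.ncard_le_ncard (orb_subset hinv hc)
  have h3 : (orb T c).ncard = 2 := by
    rcases orb_cases hT (b := c) (by omega) with h | h | h
    · exact absurd (mem_fp_of_orb h) hc'
    · exact h
    · omega
  have h4 := four_le_ncard hc' (two_le_ncard_fp hR (by omega)) h3
  have h5 : T ⊓ stabilizer G c = ⊥ := eq_bot_iff.2 fun d hd =>
    eq_one_of_lt hfix hd.1.1 (Set.union_subset (fp_subset hd.1) (fix_orb_of_two h3 hd.1 hd.2)) h4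
  have h6 := card_stab_mul T c
  rw [h5, card_bot, h3] at h6
  refine ⟨s, hs, ?_, s1, card_le_four_of_le (hR.to_le inf_le_left) ?_⟩
  · have := orderOf_dvd_iff_pow_eq_one.1 (T.orderOf_dvd_natCard ⟨hs, hsb⟩)
    rwa [← h6, one_mul, pow_two] at this
  · have h7 := card_cent_le R hsb
    have h8 : Nat.card ↥(T ⊓ centralizer {s}) ≤ 2 := (card_le_of_le inf_le_left).trans (by omega)
    have := h7.trans (Nat.mul_le_mul h8 (hfix s hs s1))
    omega

theorem exists_cent_sixteen {R : Subgroup G} (hR : IsPGroup 2 R)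
    (hfix : ∀ x ∈ R, x ≠ 1 → (fixedBy Ω x).ncard ≤ 4) {b : Ω} (hb : b ∈ nr Ω R)
    (h : 4 < (orb R b).ncard) : ∃ s ∈ R, Nat.card ↥(R ⊓ centralizer {s}) ≤ 16 := by
  obtain ⟨s, hs, s1, hsb⟩ := hb
  set T := R ⊓ stabilizer G b
  have hT : IsPGroup 2 T := hR.to_le inf_le_left
  have fin : ∀ s ∈ T, s ≠ 1 → Nat.card ↥(T ⊓ centralizer {s}) ≤ 4 →
      ∃ s ∈ R, Nat.card ↥(R ⊓ centralizer {s}) ≤ 16 := fun s hs s1 h =>
    ⟨s, hs.1, (card_cent_le R hs.2).trans (Nat.mul_le_mul h (hfix s hs.1 s1))⟩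
  by_cases hT8 : Nat.card T < 8
  · exact fin s ⟨hs, hsb⟩ s1 ((card_le_of_le inf_le_left).trans (card_le_four_of_le hT hT8))
  have hbot : ∀ X : Subgroup G, 1 < Nat.card X → ∃ x ∈ X, x ≠ 1 := by
    intro X hX
    by_contra hh
    push Not at hh
    rw [(eq_bot_iff (a := X)).2 hh, card_bot] at hX
    omega
  have h1 : (fp Ω T).ncard ≤ 4 :=
    (Set.ncard_le_ncard (fp_subset (show s ∈ T from ⟨hs, hsb⟩))).trans (hfix s hs s1)
  obtain ⟨Γ, hΓ, hinv, c, hc, hc'⟩ := exists_conj_set hR (Γ := fp Ω T) (b := b)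
    (fun x hx => hx.2) (by omega) (fun x hx c hc => by rwa [hc x hx])
  have h2 : (orb T c).ncard ≤ Γ.ncard := Set.ncard_le_ncard (orb_subset hinv hc)
  have h6 := card_stab_mul T c
  have h3 : (orb T c).ncard = 2 := by
    rcases orb_cases hT (b := c) (by omega) with h | h | h
    · exact absurd (mem_fp_of_orb h) hc'
    · exact h
    · exfalso
      obtain ⟨d, hd, d1⟩ := hbot (T ⊓ stabilizer G c) (by rw [h] at h6; omega)
      refine d1 (eq_one_of_lt hfix hd.1.1 (Set.insert_subset hd.2 (fp_subset hd.1)) ?_)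
      rw [Set.ncard_insert_of_notMem hc']
      omega
  have h4 := four_le_ncard hc' (two_le_ncard_fp hR (by omega)) h3
  rw [h3] at h6
  obtain ⟨d0, hd0, d1⟩ := hbot (T ⊓ stabilizer G c) (by omega)
  set Δ := fp Ω T ∪ orb T c
  have hΔ : ∀ d ∈ T ⊓ stabilizer G c, Δ ⊆ fixedBy Ω d := fun d hd =>
    Set.union_subset (fp_subset hd.1) (fix_orb_of_two h3 hd.1 hd.2)
  have h5 : Δ.ncard ≤ 4 := (Set.ncard_le_ncard (hΔ d0 hd0)).trans (hfix d0 hd0.1.1 d1)
  obtain ⟨Γ', hΓ', hinv', e, he, he'⟩ := exists_conj_set hR (Γ := Δ) (b := b)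
    (Or.inl fun x hx => hx.2) (by omega) (by
      rintro x hx c (hc | ⟨y, hy, rfl⟩)
      · rw [hc x hx]; exact Or.inl hc
      · exact Or.inr ⟨x * y, mul_mem hx hy, mul_smul _ _ _⟩)
  have h7 : T ⊓ stabilizer G e ⊓ stabilizer G c = ⊥ := eq_bot_iff.2 fun d hd =>
    eq_one_of_lt hfix hd.1.1.1 (Set.insert_subset hd.1.2 (hΔ d ⟨hd.1.1, hd.2⟩))
      (by rw [Set.ncard_insert_of_notMem he']; omega)
  have h8 := card_le_of_orb (inf_le_left : T ⊓ stabilizer G e ≤ T) c h3.le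
  rw [h7, card_bot] at h8
  have h9 := card_stab_mul T e
  have h10 : (orb T e).ncard ≤ Γ'.ncard := Set.ncard_le_ncard (orb_subset hinv' he)
  have h11 : Nat.card ↥(T ⊓ stabilizer G e) * (orb T e).ncard ≤ 2 * (orb T e).ncard :=
    Nat.mul_le_mul_right _ (by omega)
  have h12 : Nat.card ↥(T ⊓ stabilizer G e) * (orb T e).ncard ≤
      Nat.card ↥(T ⊓ stabilizer G e) * 4 := Nat.mul_le_mul_left _ (by omega)
  obtain ⟨u, hu, u1⟩ := hbot (T ⊓ stabilizer G e) (by omega)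
  refine fin u hu.1 u1 ?_
  have := two_mul_card_le (inf_le_left : T ⊓ centralizer {u} ≤ T) (by
    intro hc
    refine u1 (eq_one_of_lt hfix hu.1.1 (S := insert b (orb T e)) (Set.insert_subset hu.1.2 ?_) ?_)
    · rintro _ ⟨x, hx, rfl⟩
      exact smul_mem_fixedBy_of_commute (mem_centralizer_singleton_iff.1 (hc.ge hx).2) hu.2
    · rw [Set.ncard_insert_of_notMem]
      · omega
      · rintro ⟨x, hx, hxe⟩
        apply he'
        have : x⁻¹ • b = b := (inv_mem hx).2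
        rw [← hxe, inv_smul_smul] at this
        rw [this, hxe]
        exact Or.inl fun x hx => hx.2)
  omega

theorem rk_of_nr {U : Subgroup G} (hU : IsPGroup 2 U)
    (hfix : ∀ x ∈ U, x ≠ 1 → (fixedBy Ω x).ncard ≤ 4) (horb : ∀ c ∈ nr Ω U, (orb U c).ncard ≤ 4)
    (h5 : 4 < (nr Ω U).ncard) : Rk U 16 := by
  have hsub : ∀ c ∈ nr Ω U, orb U c ⊆ nr Ω U := fun c hc =>
    orb_subset (fun x hx c hc => smul_mem_nr hx hc) hc
  by_cases h4 : ∃ b ∈ nr Ω U, (orb U b).ncard = 4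
  · obtain ⟨b, hb, hb4⟩ := h4
    obtain ⟨c, hc, hc'⟩ := Set.exists_mem_notMem_of_ncard_lt_ncard (hb4 ▸ h5)
    have key : ∀ x ∈ U, x • c = c → orb U b ⊆ fixedBy Ω x → x = 1 := fun x hx h1 h2 =>
      eq_one_of_lt hfix hx (Set.insert_subset h1 h2) (by rw [Set.ncard_insert_of_notMem hc']; omega)
    by_cases hcomm : ∀ s ∈ U, U ⊓ centralizer {s} = U
    · apply rk_of_card
      have h1 := card_le_of_orb (le_refl U) b hb4.le
      have h2 := card_le_of_orb (inf_le_left : U ⊓ stabilizer G b ≤ U) c (horb c hc)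
      rw [(eq_bot_iff (a := U ⊓ stabilizer G b ⊓ stabilizer G c)).2 (fun x hx => key x hx.1.1 hx.2
        (by
          rintro _ ⟨y, hy, rfl⟩
          exact smul_mem_fixedBy_of_commute
            (mem_centralizer_singleton_iff.1 ((hcomm x hx.1.1).ge hy).2) hx.1.2)), card_bot] at h2
      omega
    · push Not at hcomm
      obtain ⟨s, hs, hne⟩ := hcomm
      refine rk_of_cent hs ?_
      have h1 := two_mul_card_le inf_le_left hne
      have h2 := card_le_of_orb (le_refl U) c (horb c hc)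
      have h3 := card_dvd_factorial (X := U ⊓ stabilizer G c) (Γ := orb U b) (by
        rintro x hx _ ⟨y, hy, rfl⟩
        exact ⟨x * y, mul_mem hx.1 hy, mul_smul _ _ _⟩) (fun x hx h => key x hx.1 hx.2 h)
      obtain ⟨k, hk⟩ := (hU.to_le (inf_le_left : U ⊓ stabilizer G c ≤ U)).exists_card_eq
      rw [hb4, hk] at h3
      have h6 : k ≤ 3 := by
        by_contra h
        exact absurd ((pow_dvd_pow 2 (show 4 ≤ k by omega)).trans h3) (by decide)
      have := Nat.pow_le_pow_right two_pos h6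
      omega
  apply rk_of_card
  have h2 : ∀ c ∈ nr Ω U, (orb U c).ncard ≤ 2 := fun c hc => by
    rcases orb_cases hU (horb c hc) with h | h | h
    · omega
    · omega
    · exact absurd ⟨c, hc, h⟩ h4
  by_cases h1 : ∃ b ∈ nr Ω U, (orb U b).ncard = 2
  · obtain ⟨b, hb, hb2⟩ := h1
    obtain ⟨c, hc, hc'⟩ := Set.exists_mem_notMem_of_ncard_lt_ncard
      (show (orb U b).ncard < (nr Ω U).ncard by omega)
    have e1 := Set.ncard_insert_of_notMem hc'
    obtain ⟨d, hd, hd'⟩ := Set.exists_mem_notMem_of_ncard_lt_ncard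
      (show (insert c (orb U b)).ncard < (nr Ω U).ncard by omega)
    have e2 := Set.ncard_insert_of_notMem hd'
    obtain ⟨e, he, he'⟩ := Set.exists_mem_notMem_of_ncard_lt_ncard
      (show (insert d (insert c (orb U b))).ncard < (nr Ω U).ncard by omega)
    have e3 := Set.ncard_insert_of_notMem he'
    have k1 := card_le_of_orb (le_refl U) b hb2.le
    have k2 := card_le_of_orb (inf_le_left : U ⊓ stabilizer G b ≤ U) c (h2 c hc)
    have k3 := card_le_of_orb (inf_le_left.trans inf_le_left :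
      U ⊓ stabilizer G b ⊓ stabilizer G c ≤ U) d (h2 d hd)
    have k4 := card_le_of_orb (inf_le_left.trans (inf_le_left.trans inf_le_left) :
      U ⊓ stabilizer G b ⊓ stabilizer G c ⊓ stabilizer G d ≤ U) e (h2 e he)
    rw [(eq_bot_iff (a := U ⊓ stabilizer G b ⊓ stabilizer G c ⊓ stabilizer G d ⊓
      stabilizer G e)).2 (fun x hx => eq_one_of_lt hfix hx.1.1.1.1 (Set.insert_subset hx.2
        (Set.insert_subset hx.1.2 (Set.insert_subset hx.1.1.2
          (fix_orb_of_two hb2 hx.1.1.1.1 hx.1.1.1.2)))) (by omega)), card_bot] at k4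
    omega
  · rw [(eq_bot_iff (a := U)).2 (fun x hx => eq_one_of_lt hfix hx (fun c hc => ?_) h5), card_bot]
    · norm_num
    rcases orb_cases hU (horb c hc) with h | h | h
    · exact mem_fp_of_orb h x hx
    · exact absurd ⟨c, hc, h⟩ h1
    · exact absurd ⟨c, hc, h⟩ h4

theorem exists_invol_pow {X : Subgroup G} (hX : IsPGroup 2 X) {x : G} (hx : x ∈ X) (x1 : x ≠ 1) :
    ∃ k : ℕ, x ^ k * x ^ k = 1 ∧ x ^ k ≠ 1 := by
  obtain ⟨k, hk⟩ := exists_pow_orderOf_eq (dvd_orderOf_of_mem hX hx x1)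
  refine ⟨k, by rw [← pow_two, ← hk, pow_orderOf_eq_one], fun e => ?_⟩
  rw [e, orderOf_one] at hk
  omega

omit [Finite G] [Finite Ω] in
theorem pow_smul_eq {x : G} {c : Ω} (h : x • c = c) (k : ℕ) : x ^ k • c = c :=
  pow_mem (mem_stabilizer_iff.2 h) k

/-- Reduction to a Sylow subgroup which is semiregular outside at most four points. -/
theorem rk_reduction (hfix : ∀ x : G, x ≠ 1 → (fixedBy Ω x).ncard ≤ 4)
    (hend : ∀ S : Sylow 2 G, (nr Ω (S : Subgroup G)).ncard ≤ 4 → ∀ U ≤ (S : Subgroup G), Rk U 16)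
    (U : Subgroup G) (hU : IsPGroup 2 U) : Rk U 16 := by
  by_cases h1 : ∃ b ∈ nr Ω U, 4 < (orb U b).ncard
  · obtain ⟨b, hb, h⟩ := h1
    obtain ⟨s, hs, h⟩ := exists_cent_sixteen hU (fun x _ => hfix x) hb h
    exact rk_of_cent hs h
  push Not at h1
  by_cases h2 : 4 < (nr Ω U).ncard
  · exact rk_of_nr hU (fun x _ => hfix x) h1 h2
  obtain ⟨M, ⟨hM, hUM, hnr⟩, hmax⟩ := Set.Finite.exists_maximal (Set.toFinite
    {M : Subgroup G | IsPGroup 2 M ∧ U ≤ M ∧ nr Ω M = nr Ω U}) ⟨U, hU, le_rfl, rfl⟩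
  obtain ⟨S, hS⟩ := hM.exists_le_sylow
  by_cases hMS : M = S
  · exact hend S (by rw [← hMS, hnr]; omega) U (hUM.trans hS)
  obtain ⟨k, hk⟩ := hM.exists_card_eq
  obtain ⟨M1, hM1, hM1S, hc⟩ := Pres.exists_le_card_pow_succ hS hk (by
    obtain ⟨n, hn⟩ := S.isPGroup'.exists_card_eq
    have := two_mul_card_le hS hMS
    rw [hn, hk, ← pow_succ'] at this
    rw [hn]
    exact pow_dvd_pow 2 ((Nat.pow_le_pow_iff_right one_lt_two).1 this))
  have hM1' : IsPGroup 2 M1 := S.isPGroup'.to_le hM1S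
  have hidx : M.relIndex M1 = 2 := by
    have := Local.card_mul_relIndex hM1
    rw [hc, hk, pow_succ] at this
    exact Nat.eq_of_mul_eq_mul_left (by positivity) this
  obtain ⟨c, ⟨x, hx, x1, hxc⟩, hc'⟩ : ∃ c ∈ nr Ω M1, c ∉ nr Ω M := by
    by_contra hh
    push Not at hh
    have h3 : nr Ω M1 = nr Ω U := hnr ▸ Set.Subset.antisymm hh
      (fun c ⟨x, hx, h⟩ => ⟨x, hM1 hx, h⟩)
    have := relIndex_eq_one.2 (hmax ⟨hM1', hUM.trans hM1, h3⟩ hM1)
    omega
  obtain ⟨j, tt, t1⟩ := exists_invol_pow hM1' hx x1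
  refine rk_of_cent_eight hM1' (pow_mem hx j) tt t1 ?_ (hUM.trans hM1)
  have h3 := card_cent_le M (pow_smul_eq hxc j)
  rw [(eq_bot_iff (a := M ⊓ stabilizer G c)).2 (fun y hy => by
    by_contra y1
    exact hc' ⟨y, hy.1, y1, hy.2⟩), bot_inf_eq, card_bot, one_mul] at h3
  have h4 := Local.card_mul_relIndex (inf_le_inf_right (centralizer {x ^ j}) hM1)
  have h5 : (M ⊓ centralizer {x ^ j}).relIndex (M1 ⊓ centralizer {x ^ j}) ≤ 2 := by
    have : M ⊓ centralizer {x ^ j} = M ⊓ (M1 ⊓ centralizer {x ^ j}) := by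
      rw [← inf_assoc, inf_of_le_left hM1]
    rw [this, inf_relIndex_right, ← hidx]
    exact relIndex_le_of_le_right inf_le_left (by omega)
  have := Nat.mul_le_mul (h3.trans (hfix _ t1)) h5
  omega

/-- The case where involutions fix at most three points. -/
theorem two_small [FaithfulSMul G Ω] [IsPretransitive G Ω] (hG : _root_.commutator G = ⊤)
    (hfix : ∀ x : G, orderOf x = 2 → (fixedBy Ω x).ncard ≤ 3) {t : G} (ht : orderOf t = 2)
    {a : Ω} (hta : t • a = a) (S : Sylow 2 G) :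
    (∃ H : Subgroup G, Cfsg.IsStronglyEmbedded H) ∨
      (∃ n : ℕ, Nonempty ((S : Subgroup G) ≃* DihedralGroup n)) ∨
      Cfsg.IsQuasiDihedral (S : Subgroup G) := by
  set Q : Subgroup G := (S : Subgroup G)
  have hQ : IsPGroup 2 Q := S.isPGroup'
  have hfix' : ∀ x ∈ Q, x ≠ 1 → (fixedBy Ω x).ncard ≤ 3 := by
    intro x hx x1
    obtain ⟨k, hk⟩ := exists_pow_orderOf_eq (dvd_orderOf_of_mem hQ hx x1)
    exact (Set.ncard_le_ncard fun c hc => pow_smul_eq hc k).trans (hfix _ hk)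
  obtain ⟨h, -, hh⟩ := exists_conj_mem_sylow S le_top (mem_top t) (k := 1)
    (by rw [pow_one, ← ht, pow_orderOf_eq_one])
  have t1 : h * t * h⁻¹ ≠ 1 := fun e => by
    rw [conj_eq_one_iff.1 e, orderOf_one] at ht; omega
  have tt : h * t * h⁻¹ * (h * t * h⁻¹) = 1 := by
    rw [← pow_two, conj_pow, ← ht, pow_orderOf_eq_one]; group
  have fin : ∀ s ∈ Q, s * s = 1 → s ≠ 1 → Nat.card ↥(Q ⊓ centralizer {s}) ≤ 4 →
      (∃ n : ℕ, Nonempty (Q ≃* DihedralGroup n)) ∨ Cfsg.IsQuasiDihedral Q := by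
    intro s hs ss s1 hc
    refine (dihedral_of_cent hQ (t := ⟨s, hs⟩) (Subtype.ext ss)
      (fun e => s1 (congrArg Subtype.val e)) ?_).resolve_left fun hcyc => ?_
    · rw [← Pres.card_subgroupOf_of_le (inf_le_left : Q ⊓ centralizer {s} ≤ Q)] at hc
      refine le_trans (card_le_of_le fun x hx => ?_) hc
      exact ⟨x.2, mem_centralizer_singleton_iff.2
        (congrArg Subtype.val (mem_centralizer_singleton_iff.1 hx))⟩
    · obtain ⟨M, hM⟩ := PSL2Rec.exists_index_two_of_cyclic_sylow (ht ▸ orderOf_dvd_natCard t) S hcyc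
      have := normal_of_index_eq_two hM
      have h1 : _root_.commutator G ≤ M := by
        rw [← Normal.quotient_commutative_iff_commutator_le]
        exact (isCyclic_of_prime_card (p := 2) hM).isMulCommutative
      rw [hG, top_le_iff] at h1
      rw [h1, index_top] at hM
      omega
  by_cases h1 : ∃ b ∈ nr Ω Q, 3 < (orb Q b).ncard
  · obtain ⟨b, hb, h⟩ := h1
    obtain ⟨s, hs, ss, s1, h⟩ := exists_cent_four hQ hfix' hb h
    exact Or.inr (fin s hs ss s1 h)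
  push Not at h1
  by_cases h2 : ∃ b ∈ nr Ω Q, (orb Q b).ncard = 2
  swap
  · left
    have h3 : ∀ x ∈ Q, x ≠ 1 → fixedBy Ω x = nr Ω Q := by
      refine fun x hx x1 => Set.Subset.antisymm (fun c hc => ⟨x, hx, x1, hc⟩) fun c hc => ?_
      have := h1 c hc
      rcases orb_cases hQ (b := c) (by omega) with h | h | h
      · exact mem_fp_of_orb h x hx
      · exact absurd ⟨c, hc, h⟩ h2
      · omega
    obtain ⟨H, k1, k2, k3⟩ := strongly_embedded S (fun e => t1 (mem_bot.1 (e.le hh)))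
      (Λ := nr Ω Q) ⟨h • a, _, hh, t1, mem_fixedBy_conj.2 hta⟩ h3
    exact ⟨H, k1, even_iff_two_dvd.2 k2, fun g hg => Nat.not_even_iff_odd.1
      fun e => k3 g hg (even_iff_two_dvd.1 e)⟩
  obtain ⟨b, hb, hb2⟩ := h2
  have k1 := card_stab_mul Q b
  rw [hb2] at k1
  by_cases h3 : ∃ c ∈ nr Ω Q, c ∉ orb Q b ∧ (orb Q c).ncard = 2
  · obtain ⟨c, hc, hcb, hc2⟩ := h3
    refine Or.inr (fin _ hh tt t1 ((card_le_of_le inf_le_left).trans ?_))
    have k2 := card_le_of_orb (inf_le_left : Q ⊓ stabilizer G b ≤ Q) c hc2.le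
    rw [(eq_bot_iff (a := Q ⊓ stabilizer G b ⊓ stabilizer G c)).2 (fun x hx =>
      eq_one_of_lt hfix' hx.1.1 (Set.union_subset (fix_orb_of_two hb2 hx.1.1 hx.1.2)
        (fix_orb_of_two hc2 hx.1.1 hx.2)) (by
          rw [Set.ncard_union_eq]
          · omega
          · refine Set.disjoint_left.2 ?_
            rintro _ ⟨y, hy, rfl⟩ ⟨y', hy', e⟩
            exact hcb ⟨y'⁻¹ * y, mul_mem (inv_mem hy') hy, by
              rw [mul_smul, ← e, inv_smul_smul]⟩)), card_bot] at k2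
    omega
  exfalso
  obtain ⟨y, hy, y', hy', hyb, hyb', hcj⟩ := Block.exists_fuse hG S (M := stabilizer G b)
    (by rw [relIndex_stab]; exact hb2)
  have y1 : y ≠ 1 := fun e => hyb' (by
    rw [e, isConj_one_right] at hcj
    rw [hcj]; exact one_mem _)
  have y1' : y' ≠ 1 := fun e => hyb' (e ▸ one_mem _)
  have k2 : nr Ω Q ⊆ fixedBy Ω y := by
    intro c hc
    by_cases hcb : c ∈ orb Q b
    · exact fix_orb_of_two hb2 hy hyb hcb
    · have := h1 c hc
      rcases orb_cases hQ (b := c) (by omega) with h | h | h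
      · exact mem_fp_of_orb h y hy
      · exact absurd ⟨c, hc, hcb, h⟩ h3
      · omega
  have k3 := Set.ncard_lt_ncard (s := fixedBy Ω y') (t := nr Ω Q)
    ⟨fun c hc => ⟨y', hy', y1', hc⟩, fun h => hyb' (h hb)⟩
  have k4 := Set.ncard_le_ncard k2
  rw [ncard_fixedBy_isConj hcj] at k3
  omega

end Cfsg.Agent.Fix4
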