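import Cfsg.Agent.Fix4.Basic
import Cfsg.Agent.Local.Fitting
import Cfsg.Agent.LinP.NormalRank

/-!
`2`-groups with an involution whose centraliser is small; bounds for elementary abelian quotients.
-/

set_option autoImplicit false

namespace Cfsg.Agent.Fix4

open Subgroup MulAction

universe u

variable {G : Type*} [Group G]

/-- The conjugacy class of `t` under a subgroup. -/
def cl (X : Subgroup G) (t : G) : Set G := {g | ∃ s ∈ X, s * t * s⁻¹ = g}

theorem card_cent_mul (X : Subgroup G) (t : G) :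
    Nat.card ↥(X ⊓ centralizer {t}) * (cl X t).ncard = Nat.card X := by
  let _ : MulAction G G := MulAction.compHom G (MulAut.conj (G := G))
  have h := card_stab_mul (Ω := G) X t
  have h1 : stabilizer G t = centralizer {t} := by
    ext s
    rw [mem_centralizer_singleton_iff, mem_stabilizer_iff]
    exact mul_inv_eq_iff_eq_mul
  rw [h1] at h
  exact h

theorem two_mul_card_le [Finite G] {A B : Subgroup G} (h : A ≤ B) (hne : A ≠ B) :
    2 * Nat.card A ≤ Nat.card B := by
  have h1 := Local.card_mul_relIndex h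
  have h2 : A.relIndex B ≠ 1 := fun e => hne (le_antisymm h (relIndex_eq_one.1 e))
  have h3 : A.relIndex B ≠ 0 := by
    intro e
    rw [e, mul_zero] at h1
    exact Nat.card_pos.ne h1
  rw [← h1, mul_comm]
  exact Nat.mul_le_mul_left _ (by omega)

theorem isConj_mul_self {t x : G} (h : IsConj t x) (ht : t * t = 1) : x * x = 1 := by
  obtain ⟨c, rfl⟩ := isConj_iff.1 h
  rw [show c * t * c⁻¹ * (c * t * c⁻¹) = c * (t * t) * c⁻¹ by group, ht]; group

theorem eq_or_of_mem_zpowers {z x : G} (hz : z * z = 1) (hx : x ∈ zpowers z) : x = 1 ∨ x = z := by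
  obtain ⟨i, rfl⟩ := hx
  have h2 : z ^ (2 : ℤ) = 1 := by rw [zpow_two, hz]
  rcases Int.even_or_odd' i with ⟨k, rfl | rfl⟩
  · left; simp only; rw [zpow_mul, h2, one_zpow]
  · right; simp only; rw [zpow_add, zpow_mul, h2, one_zpow, one_mul, zpow_one]

/-- In a `2`-group an involution with centraliser of order at most `8` has as conjugacy class a
coset of a normal subgroup. -/
theorem exists_class_coset (n : ℕ) : ∀ (R : Type u) [Group R] [Finite R], Nat.card R = n →
    IsPGroup 2 R → ∀ t : R, t * t = 1 → t ≠ 1 → Nat.card (centralizer {t}) ≤ 8 →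
    ∃ A : Subgroup R, A.Normal ∧ t ∉ A ∧ ∀ x, IsConj t x ↔ t * x ∈ A := by
  induction n using Nat.strong_induction_on with
  | _ n ih =>
  intro R _ _ hn hR t tt t1 hc
  by_cases hz : t ∈ center R
  · refine ⟨⊥, inferInstance, t1, fun x => ⟨fun h => ?_, fun h => ?_⟩⟩
    · obtain ⟨c, rfl⟩ := isConj_iff.1 h
      rw [mem_center_iff.1 hz c, mul_inv_cancel_right, tt]; exact one_mem _
    · have : x = t := by
        rw [mem_bot] at h
        rw [eq_inv_of_mul_eq_one_right h, eq_comm, eq_inv_iff_mul_eq_one, tt]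
      rw [this]
  have step : ∀ z ∈ center R, orderOf z = 2 → ∃ A : Subgroup R, A.Normal ∧ z ∈ A ∧ t ∉ A ∧
      ∀ x, t * x ∈ A ↔ IsConj t x ∨ IsConj (t * z) x := by
    intro z hzc hz2
    have zz : z * z = 1 := by rw [← pow_two, ← hz2, pow_orderOf_eq_one]
    have : (zpowers z).Normal := ⟨fun x hx g => by
      rwa [mem_center_iff.1 (zpowers_le.2 hzc hx) g, mul_inv_cancel_right]⟩
    let π := QuotientGroup.mk' (zpowers z)
    have hπ : ∀ x, π x = 1 ↔ x = 1 ∨ x = z := fun x => by
      rw [QuotientGroup.mk'_apply, QuotientGroup.eq_one_iff]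
      exact ⟨eq_or_of_mem_zpowers zz, by rintro (rfl | rfl); exacts [one_mem _, mem_zpowers _]⟩
    have hlt : Nat.card (R ⧸ zpowers z) < n := by
      rw [← hn, card_eq_card_quotient_mul_card_subgroup (zpowers z), Nat.card_zpowers, hz2]
      have : 0 < Nat.card (R ⧸ zpowers z) := Nat.card_pos
      omega
    have hc' : Nat.card (centralizer {π t}) ≤ 8 := by
      have h1 := Local.card_comap_mk' (N := zpowers z) (centralizer {π t})
      rw [Nat.card_zpowers, hz2] at h1
      have h2 := card_cent_mul ((centralizer {π t}).comap π) t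
      have h3 : (cl ((centralizer {π t}).comap π) t).ncard ≤ 2 := by
        refine le_trans (Set.ncard_le_ncard (t := {t, z * t}) ?_) ?_
        · rintro _ ⟨s, hs, rfl⟩
          rw [mem_comap, mem_centralizer_singleton_iff] at hs
          have : π (s * t * s⁻¹ * t⁻¹) = 1 := by
            rw [map_mul, map_mul, map_mul, hs, map_inv, map_inv]; group
          rcases (hπ _).1 this with h | h
          · left; rwa [mul_inv_eq_one] at h
          · right; rwa [mul_inv_eq_iff_eq_mul] at h
        · exact (Set.ncard_insert_le _ _).trans (by simp)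
      have h4 : Nat.card ↥((centralizer {π t}).comap π ⊓ centralizer {t}) ≤ 8 :=
        (card_le_of_le inf_le_right).trans hc
      have h5 := Nat.mul_le_mul h4 h3
      rw [h2] at h5
      change Nat.card ↥((centralizer {π t}).comap π) = _ at h1
      omega
    obtain ⟨A, hA, htA, hcl⟩ := ih _ hlt (R ⧸ zpowers z) rfl (hR.to_quotient _) (π t)
      (by rw [← map_mul, tt, map_one]) (by
        rw [Ne, hπ]
        rintro (h | h)
        · exact t1 h
        · exact hz (h ▸ hzc)) hc'
    refine ⟨A.comap π, inferInstance, ?_, htA, fun x => ?_⟩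
    · rw [mem_comap, (hπ z).2 (Or.inr rfl)]; exact one_mem _
    · rw [mem_comap, map_mul, ← hcl]
      constructor
      · intro h
        obtain ⟨c, hc⟩ := isConj_iff.1 h
        obtain ⟨c, rfl⟩ := QuotientGroup.mk'_surjective (zpowers z) c
        have : π (x⁻¹ * (c * t * c⁻¹)) = 1 := by
          rw [map_mul, map_inv, ← hc, map_mul, map_mul, map_inv]; exact inv_mul_cancel _
        rcases (hπ _).1 this with h | h
        · left; exact isConj_iff.2 ⟨c, (inv_mul_eq_one.1 h).symm⟩
        · right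
          refine isConj_iff.2 ⟨c, ?_⟩
          rw [inv_mul_eq_iff_eq_mul] at h
          rw [← mul_assoc, mul_assoc _ z, ← mem_center_iff.1 hzc, ← mul_assoc, h, mul_assoc, zz,
            mul_one]
      · rintro (h | h)
        · exact π.map_isConj h
        · have := π.map_isConj h
          rwa [map_mul, (hπ z).2 (Or.inr rfl), mul_one] at this
  by_cases hex : ∃ z ∈ center R, orderOf z = 2 ∧ IsConj t (t * z)
  · obtain ⟨z, hzc, hz2, hcj⟩ := hex
    obtain ⟨A, hA, -, htA, h⟩ := step z hzc hz2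
    refine ⟨A, hA, htA, fun x => ?_⟩
    rw [h]
    exact ⟨Or.inl, fun h => h.elim id hcj.trans⟩
  exfalso
  push Not at hex
  obtain ⟨z, -, hz2, hzc⟩ := LinP.exists_central_of_normal hR ⊤ (by
    intro h
    exact t1 (mem_bot.1 (h ▸ mem_top t)))
  have zz : z * z = 1 := by rw [← pow_two, ← hz2, pow_orderOf_eq_one]
  obtain ⟨A, hA, hzA, htA, h⟩ := step z hzc hz2
  have hinv : ∀ a ∈ A, t * a * t = a⁻¹ := by
    intro a ha
    have h1 : t * a * (t * a) = 1 := by
      rcases (h (t * a)).1 (by rwa [← mul_assoc, tt, one_mul]) with h | h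
      · exact isConj_mul_self h tt
      · refine isConj_mul_self h ?_
        rw [mul_assoc, ← mul_assoc z, ← mem_center_iff.1 hzc, mul_assoc, zz, mul_one, tt]
    rw [← mul_assoc] at h1
    exact eq_inv_of_mul_eq_one_left h1
  have hcomm : ∀ a ∈ A, ∀ b ∈ A, a * b = b * a := by
    intro a ha b hb
    have h1 := hinv _ (mul_mem ha hb)
    have h2 : t * (a * b) * t = t * a * t * (t * b * t) := by
      rw [show t * a * t * (t * b * t) = t * a * (t * t) * b * t by group, tt]; group
    rw [h2, hinv a ha, hinv b hb, ← mul_inv_rev, inv_inj] at h1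
    exact h1.symm
  let B : Subgroup R :=
    { carrier := {x | ∃ a ∈ A, a * a = x}
      one_mem' := ⟨1, one_mem _, one_mul _⟩
      mul_mem' := by
        rintro _ _ ⟨a, ha, rfl⟩ ⟨b, hb, rfl⟩
        refine ⟨a * b, mul_mem ha hb, ?_⟩
        rw [mul_assoc, ← mul_assoc b, ← hcomm a ha b hb]; group
      inv_mem' := by
        rintro _ ⟨a, ha, rfl⟩
        exact ⟨a⁻¹, inv_mem ha, by group⟩ }
  have hBn : B.Normal := ⟨by
    rintro _ ⟨a, ha, rfl⟩ g
    exact ⟨g * a * g⁻¹, hA.conj_mem a ha g, by group⟩⟩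
  have hB : B = ⊥ := by
    by_contra hB
    obtain ⟨w, ⟨a, ha, rfl⟩, hw2, hwc⟩ := LinP.exists_central_of_normal hR B hB
    refine hex _ hwc hw2 (isConj_iff.2 ⟨a⁻¹, ?_⟩)
    rw [inv_inv, ← hinv a ha, mul_assoc (t * a), tt]; group
  have hsq : ∀ a ∈ A, a * a = 1 := fun a ha => mem_bot.1 (hB ▸ (⟨a, ha, rfl⟩ : a * a ∈ B))
  have hAC : A ≤ centralizer {t} := by
    intro a ha
    rw [mem_centralizer_singleton_iff]
    have h1 := hinv a ha
    rw [← eq_inv_of_mul_eq_one_left (hsq a ha)] at h1
    calc a * t = t * a * t * t := by rw [h1]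
      _ = t * a := by rw [mul_assoc, tt, mul_one]
  have hA4 : Nat.card A ≤ 4 := by
    have := two_mul_card_le hAC (fun e => htA (e ▸ mem_centralizer_singleton_iff.2 rfl))
    omega
  have hmem : ∀ x ∈ cl ⊤ t, t * x ∈ A := by
    rintro _ ⟨s, -, rfl⟩
    exact (h _).2 (Or.inl (isConj_iff.2 ⟨s, rfl⟩))
  have hcl3 : (cl ⊤ t).ncard ≤ 3 := by
    have h1 : (cl ⊤ t).ncard ≤ ((A : Set R) \ {z}).ncard := by
      refine Set.ncard_le_ncard_of_injOn (fun x => t * x) (fun x hx => ⟨hmem x hx, ?_⟩)
        (fun x _ y _ e => mul_left_cancel e)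
      obtain ⟨s, -, rfl⟩ := hx
      intro e
      refine hex z hzc hz2 (isConj_iff.2 ⟨s, ?_⟩)
      rw [← (e : _ = z), ← mul_assoc, tt, one_mul]
    rw [Set.ncard_sdiff_singleton_of_mem hzA] at h1
    have : (A : Set R).ncard = Nat.card A := rfl
    omega
  obtain ⟨g, hg⟩ : ∃ g, g * t * g⁻¹ ≠ t := by
    by_contra hh
    push Not at hh
    exact hz (mem_center_iff.2 fun g => mul_inv_eq_iff_eq_mul.1 (hh g))
  have hpair : ({t, g * t * g⁻¹} : Set R) ⊆ cl ⊤ t := by
    rintro _ (rfl | rfl)
    · exact ⟨1, mem_top _, by group⟩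
    · exact ⟨g, mem_top _, rfl⟩
  have hcl2 : (cl ⊤ t).ncard = 2 := by
    have h1 := card_cent_mul ⊤ t
    obtain ⟨m, hm⟩ := (hR.to_subgroup ⊤).exists_card_eq
    obtain ⟨k, -, hk⟩ := (Nat.dvd_prime_pow Nat.prime_two).1 (hm ▸ Dvd.intro_left _ h1)
    have h2 := Set.ncard_le_ncard hpair
    rw [Set.ncard_pair hg.symm] at h2
    rw [hk] at hcl3 h2 ⊢
    rcases k with _ | _ | k
    · omega
    · rfl
    · rw [pow_succ, pow_succ] at hcl3
      have := Nat.pos_of_ne_zero (pow_ne_zero k two_ne_zero)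
      omega
  have hcl : cl ⊤ t = {t, g * t * g⁻¹} :=
    (Set.eq_of_subset_of_ncard_le hpair (by rw [hcl2, Set.ncard_pair hg.symm])).symm
  set t' := g * t * g⁻¹ with ht'
  have hy : t * t' ∈ A := hmem _ (hpair (Or.inr rfl))
  have htt' : t' * t = t * t' := by
    have := mem_centralizer_singleton_iff.1 (hAC hy)
    rw [mul_assoc] at this
    exact mul_left_cancel this
  refine hex (t * t') (mem_center_iff.2 fun k => ?_) ?_ ?_
  · rw [← mul_inv_eq_iff_eq_mul,
      show k * (t * t') * k⁻¹ = k * t * k⁻¹ * (k * t' * k⁻¹) by group]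
    have e1 : k * t * k⁻¹ ∈ cl ⊤ t := ⟨k, mem_top _, rfl⟩
    have e2 : k * t' * k⁻¹ ∈ cl ⊤ t := ⟨k * g, mem_top _, by rw [ht']; group⟩
    have e3 : k * t * k⁻¹ ≠ k * t' * k⁻¹ := fun e => hg (by simpa using e.symm)
    rw [hcl] at e1 e2
    rcases e1 with e1 | e1 <;> rcases e2 with e2 | e2
    · exact absurd (e1.trans e2.symm) e3
    · rw [e1, e2]
    · rw [e1, e2, htt']
    · exact absurd (e1.trans e2.symm) e3
  · refine orderOf_eq_prime (by rw [pow_two, hsq _ hy]) fun e => hg ?_
    rw [eq_inv_of_mul_eq_one_right e, eq_comm, eq_inv_iff_mul_eq_one, tt]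
  · rw [← mul_assoc, tt, one_mul]
    exact isConj_iff.2 ⟨g, rfl⟩

/-- Every elementary abelian quotient of `U` has order at most `k`. -/
def Rk (U : Subgroup G) (k : ℕ) : Prop :=
  ∀ N : Subgroup G, (∀ a ∈ U, a * a ∈ N) → N.relIndex U ≤ k

theorem rk_of_card [Finite G] {U : Subgroup G} {k : ℕ} (h : Nat.card U ≤ k) : Rk U k :=
  fun N _ => (Nat.le_of_dvd Nat.card_pos (relIndex_dvd_card N U)).trans h

theorem Rk.mono {U : Subgroup G} {k l : ℕ} (h : Rk U k) (hkl : k ≤ l) : Rk U l :=
  fun N hN => (h N hN).trans hkl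

theorem rk_of_cent [Finite G] {U : Subgroup G} {k : ℕ} {t : G} (ht : t ∈ U)
    (h : Nat.card ↥(U ⊓ centralizer {t}) ≤ k) : Rk U k := by
  intro N hN
  have h1 := card_cent_mul U t
  have h2 : (cl U t).ncard ≤ ((N ⊓ U : Subgroup G) : Set G).ncard := by
    refine Set.ncard_le_ncard_of_injOn (fun x => x * t⁻¹) ?_
      (fun x _ y _ e => mul_right_cancel e)
    rintro _ ⟨s, hs, rfl⟩
    refine ⟨?_, U.mul_mem (U.mul_mem (U.mul_mem hs ht) (U.inv_mem hs)) (U.inv_mem ht)⟩
    have : s * t * s⁻¹ * t⁻¹ = s * s * (s⁻¹ * t * (s⁻¹ * t)) * (t⁻¹ * t⁻¹) := by group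
    change s * t * s⁻¹ * t⁻¹ ∈ N
    rw [this]
    exact mul_mem (mul_mem (hN s hs) (hN _ (mul_mem (inv_mem hs) ht))) (hN _ (inv_mem ht))
  have h3 := Local.card_mul_relIndex (inf_le_right : N ⊓ U ≤ U)
  rw [inf_relIndex_right] at h3
  change _ ≤ Nat.card ↥(N ⊓ U) at h2
  have h4 := Nat.mul_le_mul h h2
  rw [h1, ← h3, mul_comm] at h4
  exact Nat.le_of_mul_le_mul_right h4 Nat.card_pos

theorem rk_mul [Finite G] {U B : Subgroup G} {k l : ℕ} (h : Rk (B ⊓ U) k)
    (hl : B.relIndex U ≤ l) : Rk U (k * l) := by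
  intro N hN
  have h1 := relIndex_inf_mul_relIndex N B U
  have h2 : N.relIndex U ≤ (N ⊓ B).relIndex U :=
    relIndex_le_of_le_left inf_le_left (FiniteIndex.index_ne_zero)
  rw [← h1] at h2
  exact h2.trans (Nat.mul_le_mul (h N fun a ha => hN a ha.2) hl)

theorem rk_of_comm [Finite G] {U : Subgroup G} {k : ℕ} (hc : ∀ a ∈ U, ∀ b ∈ U, a * b = b * a)
    (h : {a | a ∈ U ∧ a * a = 1}.ncard ≤ k) : Rk U k := by
  intro N hN
  let f : U →* U := MonoidHom.mk' (fun a => a * a) (fun a b => Subtype.ext (by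
    have := hc a a.2 b b.2
    simp only [coe_mul]
    rw [mul_assoc, ← mul_assoc (b : G), ← this]; group))
  have h1 : f.range.index = Nat.card f.ker := index_range
  have h2 : f.range ≤ N.subgroupOf U := by
    rintro _ ⟨a, rfl⟩
    exact hN a a.2
  have h3 : Nat.card f.ker = {a | a ∈ U ∧ a * a = 1}.ncard := by
    rw [← Nat.card_coe_set_eq]
    exact Nat.card_congr ⟨fun a => ⟨a.1.1, a.1.2, congrArg Subtype.val a.2⟩,
      fun a => ⟨⟨a.1, a.2.1⟩, Subtype.ext a.2.2⟩, fun _ => rfl, fun _ => rfl⟩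
  exact (Nat.le_of_dvd (Nat.pos_of_ne_zero FiniteIndex.index_ne_zero)
    (index_dvd_of_le h2)).trans (h1 ▸ h3 ▸ h)

/-- Subgroups of a `2`-group with at most one involution. -/
theorem rk_of_unique [Finite G] {K U : Subgroup G} (hK : IsPGroup 2 K) {z : G}
    (hz : ∀ x ∈ K, x * x = 1 → x = 1 ∨ x = z) (hU : U ≤ K) : Rk U 4 := by
  have hs : ∀ V ≤ K, {a | a ∈ V ∧ a * a = 1}.ncard ≤ 2 := by
    intro V hV
    refine le_trans (Set.ncard_le_ncard (t := {1, z}) ?_) ?_
    · exact fun a ha => hz a (hV ha.1) ha.2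
    · exact (Set.ncard_insert_le _ _).trans (by simp)
  have hn : ¬ LinP.HasNormalRank2 2 K := by
    rintro ⟨w, c, -, hw, hc, hcw, -⟩
    have w1 : (w : G) ≠ 1 := fun e => by
      rw [show w = 1 from Subtype.ext e, orderOf_one] at hw; omega
    have hw2 : (w : G) * w = 1 := by
      have := pow_orderOf_eq_one w
      rw [hw, pow_two] at this
      exact congrArg Subtype.val this
    have hc2 : (c : G) * c = 1 := by rw [pow_two] at hc; exact congrArg Subtype.val hc
    rcases hz c c.2 hc2 with h | h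
    · exact hcw ((show c = 1 from Subtype.ext h) ▸ one_mem _)
    · rcases hz w w.2 hw2 with h' | h'
      · exact w1 h'
      · exact hcw ((show c = w from Subtype.ext (h.trans h'.symm)) ▸ mem_zpowers _)
  rcases LinP.cyclic_or_maxClass hK hn with h | ⟨-, n, a, b, -, -, h3, -⟩
  · refine (rk_of_comm (fun a ha b hb => ?_) (hs U hU)).mono (by norm_num)
    exact congrArg Subtype.val (h.isMulCommutative.is_comm.comm (⟨a, hU ha⟩ : K) ⟨b, hU hb⟩)
  · have hK' : (zpowers (a : G)).subgroupOf K = zpowers a := by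
      ext x
      exact ⟨fun ⟨i, hi⟩ => ⟨i, Subtype.ext hi⟩, fun ⟨i, hi⟩ => ⟨i, congrArg Subtype.val hi⟩⟩
    have idx : (zpowers (a : G)).relIndex K = 2 := by rw [relIndex, hK', h3]
    refine rk_mul (B := zpowers (a : G)) (k := 2) (l := 2)
      (rk_of_comm ?_ (hs _ (inf_le_right.trans hU))) ?_
    · rintro _ ⟨⟨i, rfl⟩, -⟩ _ ⟨⟨j, rfl⟩, -⟩
      exact (Commute.zpow_zpow_self _ _ _).eq
    · rw [← idx]
      exact relIndex_le_of_le_right hU (by rw [idx]; norm_num)

/-- Subgroups of a `2`-group containing an involution with centraliser of order at most `8`. -/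
theorem rk_of_cent_eight [Finite G] {R U : Subgroup G} (hR : IsPGroup 2 R) {t : G} (ht : t ∈ R)
    (tt : t * t = 1) (t1 : t ≠ 1) (hc : Nat.card ↥(R ⊓ centralizer {t}) ≤ 8) (hU : U ≤ R) :
    Rk U 16 := by
  have hcc : ∀ x : R, Nat.card (centralizer {x}) = Nat.card ↥(R ⊓ centralizer {(x : G)}) := by
    intro x
    rw [← Pres.card_subgroupOf_of_le (inf_le_left : R ⊓ centralizer {(x : G)} ≤ R)]
    congr 2
    ext y
    simp [mem_subgroupOf, mem_centralizer_singleton_iff, Subtype.ext_iff]
  obtain ⟨A, hA, htA, hcl⟩ := exists_class_coset _ R rfl hR ⟨t, ht⟩ (Subtype.ext tt)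
    (fun e => t1 (congrArg Subtype.val e)) (by rw [hcc]; exact hc)
  set t' : R := ⟨t, ht⟩
  have tt' : t' * t' = 1 := Subtype.ext tt
  have hinv : ∀ a ∈ A, t' * a * t' = a⁻¹ := by
    intro a ha
    have h1 := isConj_mul_self ((hcl (t' * a)).2 (by rwa [← mul_assoc, tt', one_mul])) tt'
    rw [← mul_assoc] at h1
    exact eq_inv_of_mul_eq_one_left h1
  have hcomm : ∀ a ∈ A, ∀ b ∈ A, a * b = b * a := by
    intro a ha b hb
    have h1 := hinv _ (mul_mem ha hb)
    have h2 : t' * (a * b) * t' = t' * a * t' * (t' * b * t') := by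
      rw [show t' * a * t' * (t' * b * t') = t' * a * (t' * t') * b * t' by group, tt']; group
    rw [h2, hinv a ha, hinv b hb, ← mul_inv_rev, inv_inj] at h1
    exact h1.symm
  by_cases hex : ∃ x ∈ U, ∃ hx : x ∈ R, t' * ⟨x, hx⟩ ∈ A
  · obtain ⟨x, hxU, hx, hxA⟩ := hex
    refine (rk_of_cent hxU (k := 8) ?_).mono (by norm_num)
    refine (card_le_of_le (inf_le_inf_right _ hU)).trans ?_
    obtain ⟨c, hc'⟩ := isConj_iff.1 ((hcl _).2 hxA)
    rw [← hcc ⟨x, hx⟩, ← hc']
    refine le_trans (le_of_eq ?_) (hcc t' ▸ hc)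
    refine Nat.card_congr ⟨fun y => ⟨c⁻¹ * y * c, ?_⟩, fun y => ⟨c * y * c⁻¹, ?_⟩,
      fun y => Subtype.ext (by simp [mul_assoc]), fun y => Subtype.ext (by simp [mul_assoc])⟩
    · have := mem_centralizer_singleton_iff.1 y.2
      rw [mem_centralizer_singleton_iff]
      calc c⁻¹ * y * c * t' = c⁻¹ * (y * (c * t' * c⁻¹)) * c := by group
        _ = _ := by rw [this]; group
    · have := mem_centralizer_singleton_iff.1 y.2
      rw [mem_centralizer_singleton_iff]
      calc c * y * c⁻¹ * (c * t' * c⁻¹) = c * (y * t') * c⁻¹ := by group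
        _ = _ := by rw [this]; group
  push Not at hex
  -- the index of `A` is at most `8`
  have hidx : A.index ≤ 8 := by
    have h1 := card_cent_mul (⊤ : Subgroup R) t'
    have h2 : (cl ⊤ t').ncard = (A : Set R).ncard := by
      refine Set.ncard_congr (fun x _ => t' * x) ?_ (fun x y _ _ e => mul_left_cancel e) ?_
      · rintro _ ⟨s, -, rfl⟩
        exact (hcl _).1 (isConj_iff.2 ⟨s, rfl⟩)
      · intro a ha
        have h3 : t' * (t' * a) = a := by rw [← mul_assoc, tt', one_mul]
        obtain ⟨c, hc⟩ := isConj_iff.1 ((hcl (t' * a)).2 (by rwa [h3]))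
        exact ⟨t' * a, ⟨c, mem_top _, hc⟩, h3⟩
    rw [h2, top_inf_eq, card_top, ← A.card_mul_index, mul_comm] at h1
    have h3 := Nat.eq_of_mul_eq_mul_left Nat.card_pos h1
    rw [← h3, hcc]; exact hc
  refine rk_mul (B := A.map R.subtype) (k := 4) (l := 4) (rk_of_comm ?_ ?_) ?_
  · rintro _ ⟨⟨a, ha, rfl⟩, -⟩ _ ⟨⟨b, hb, rfl⟩, -⟩
    exact congrArg Subtype.val (hcomm a ha b hb)
  · have h1 := two_mul_card_le (inf_le_right : A ⊓ centralizer {t'} ≤ _)
      (fun e => htA (e.ge (mem_centralizer_singleton_iff.2 rfl)).1)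
    have h2 : {a | a ∈ A.map R.subtype ⊓ U ∧ a * a = 1}.ncard ≤
        (((A ⊓ centralizer {t'}).map R.subtype : Subgroup G) : Set G).ncard := by
      refine Set.ncard_le_ncard ?_
      rintro _ ⟨⟨⟨a, ha, rfl⟩, -⟩, h⟩
      refine ⟨a, ⟨ha, ?_⟩, rfl⟩
      have h3 : a * a = 1 := Subtype.ext h
      have h4 := hinv a ha
      rw [← eq_inv_of_mul_eq_one_left h3] at h4
      refine mem_centralizer_singleton_iff.2 ?_
      calc a * t' = t' * a * t' * t' := by rw [h4]
        _ = t' * a := by rw [mul_assoc, tt', mul_one]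
    change _ ≤ Nat.card ↥((A ⊓ centralizer {t'}).map R.subtype) at h2
    rw [card_map_of_injective R.subtype_injective] at h2
    rw [hcc] at h1
    change _ ≤ Nat.card ↥(R ⊓ centralizer {t}) at h1
    omega
  · have h1 : (A.map R.subtype).relIndex U = A.relIndex (U.subgroupOf R) := by
      rw [← relIndex_subgroupOf hU, subgroupOf, comap_map_eq_self_of_injective R.subtype_injective]
    rw [h1, ← relIndex_sup_left]
    have h2 := relIndex_mul_index (le_sup_left : A ≤ A ⊔ U.subgroupOf R)
    have h3 : (A ⊔ U.subgroupOf R).index ≠ 1 := by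
      rw [Ne, index_eq_one]
      intro e
      have : t' ∈ ((A ⊔ U.subgroupOf R : Subgroup R) : Set R) := e ▸ mem_top t'
      rw [normal_mul] at this
      obtain ⟨a, ha, x, hx, e⟩ := this
      refine hex x hx x.2 ?_
      have e' : a * x = t' := e
      have : t' * x = t' * a⁻¹ * t'⁻¹ := by
        rw [← eq_inv_of_mul_eq_one_left tt', mul_assoc, mul_left_cancel_iff, ← e']; group
      change t' * x ∈ A
      rw [this]
      exact hA.conj_mem _ (inv_mem ha) _
    have h4 : (A ⊔ U.subgroupOf R).index ≠ 0 := FiniteIndex.index_ne_zero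
    have h5 : A.relIndex (A ⊔ U.subgroupOf R) * 2 ≤ A.index := by
      rw [← h2]; exact Nat.mul_le_mul_left _ (by omega)
    omega

theorem mem_four [Finite G] {C : Subgroup G} (hC : Nat.card C ≤ 4) {z c : G} (hz : z ∈ C)
    (hc : c ∈ C) (z1 : z ≠ 1) (c1 : c ≠ 1) (hzc : z ≠ c) (hzc' : z * c ≠ 1) {x : G} (hx : x ∈ C) :
    x = 1 ∨ x = z ∨ x = c ∨ x = z * c := by
  have h1 : ({1, z, c, z * c} : Set G) ⊆ C := by
    rintro _ (rfl | rfl | rfl | rfl)
    exacts [C.one_mem, hz, hc, C.mul_mem hz hc]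
  have h2 : ({1, z, c, z * c} : Set G).ncard = 4 := by
    rw [Set.ncard_insert_of_notMem, Set.ncard_insert_of_notMem, Set.ncard_pair]
    · simpa using z1
    · simp [hzc, c1]
    · simp [z1.symm, c1.symm, hzc'.symm]
  have h3 := Set.eq_of_subset_of_ncard_le h1 (by rw [h2]; exact hC)
  have : x ∈ ({1, z, c, z * c} : Set G) := h3 ▸ hx
  simpa using this

/-- Suzuki's lemma: a `2`-group with an involution whose centraliser has order at most four. -/
theorem dihedral_of_cent {S : Type*} [Group S] [Finite S] (hS : IsPGroup 2 S) {t : S}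
    (tt : t * t = 1) (t1 : t ≠ 1) (hc : Nat.card (centralizer {t}) ≤ 4) :
    IsCyclic S ∨ (∃ n, Nonempty (S ≃* DihedralGroup n)) ∨ Cfsg.IsQuasiDihedral S := by
  by_cases hn : LinP.HasNormalRank2 2 S
  swap
  · rcases LinP.normal_rank_one hS hn with h | ⟨-, ⟨n, h⟩ | ⟨n, ⟨e⟩⟩ | h⟩
    · exact Or.inl h
    · exact Or.inr (Or.inl ⟨_, h⟩)
    · exfalso
      have h1 : centralizer {t} = ⊤ := by
        rw [eq_top_iff]
        intro x _
        rw [mem_centralizer_singleton_iff]
        apply e.injective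
        rw [map_mul, map_mul]
        have h2 : e t * e t = 1 := by rw [← map_mul, tt, map_one]
        generalize e t = y at h2
        generalize e x = w
        rcases y with i | i
        · have h3 : i + i = 0 := by
            rw [QuaternionGroup.a_mul_a, QuaternionGroup.one_def] at h2
            exact QuaternionGroup.a.inj h2
          rcases w with j | j
          · simp [add_comm]
          · simp only [QuaternionGroup.xa_mul_a, QuaternionGroup.a_mul_xa]
            congr 1
            linear_combination h3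
        · exfalso
          have := orderOf_dvd_of_pow_eq_one (show QuaternionGroup.xa i ^ 2 = 1 by rw [pow_two, h2])
          rw [QuaternionGroup.orderOf_xa] at this
          omega
      rw [h1, card_top, Nat.card_congr e.toEquiv, Nat.card_eq_fintype_card,
        QuaternionGroup.card, pow_succ] at hc
      have := Nat.pos_of_ne_zero (pow_ne_zero n two_ne_zero)
      omega
    · exact Or.inr (Or.inr h)
  refine Or.inr (Or.inl ?_)
  obtain ⟨z, c, hzc, hz2, hc2, hcz, hcc⟩ := hn
  have zz : z * z = 1 := by rw [← pow_two, ← hz2, pow_orderOf_eq_one]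
  have z1 : z ≠ 1 := fun e => by rw [e, orderOf_one] at hz2; omega
  rw [pow_two] at hc2
  have c1 : c ≠ 1 := fun e => hcz (e ▸ one_mem _)
  have hne : z ≠ c := fun e => hcz (e ▸ mem_zpowers _)
  have hne' : z * c ≠ 1 := fun e => hne (by
    rw [eq_inv_of_mul_eq_one_left e, eq_comm, eq_inv_iff_mul_eq_one, hc2])
  have zcomm : ∀ x, x * z = z * x := mem_center_iff.1 hzc
  have hcl : ∀ g, g * c * g⁻¹ = c ∨ g * c * g⁻¹ = z * c := fun g =>
    (eq_or_of_mem_zpowers zz (hcc g)).imp (fun h => mul_inv_eq_one.1 h)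
      (fun h => mul_inv_eq_iff_eq_mul.1 h)
  have hzC : ∀ x, z ∈ centralizer {x} := fun x => mem_centralizer_singleton_iff.2 (zcomm x).symm
  have hself : ∀ x : S, x ∈ centralizer {x} := fun x => mem_centralizer_singleton_iff.2 rfl
  have hC : Nat.card (centralizer {c}) ≤ 4 := by
    by_cases htz : t = z
    · refine le_trans (card_le_of_le fun x _ => ?_) hc
      rw [mem_centralizer_singleton_iff, htz, zcomm]
    have hzt : z * t ≠ 1 := fun e => htz (by
      rw [eq_inv_of_mul_eq_one_right e, eq_comm, eq_inv_iff_mul_eq_one, zz])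
    have hCt : ∀ x, x * t = t * x → x = 1 ∨ x = z ∨ x = t ∨ x = z * t := fun x hx =>
      mem_four hc (hzC t) (hself t) z1 t1 (Ne.symm htz) hzt (mem_centralizer_singleton_iff.2 hx)
    by_cases hct : c * t = t * c
    · refine le_trans (card_le_of_le fun x hx => ?_) hc
      rw [mem_centralizer_singleton_iff] at hx ⊢
      rcases hCt c hct with h | h | h | h
      · exact absurd h c1
      · exact absurd h.symm hne
      · rwa [← h]
      · rw [h, ← mul_assoc, zcomm, mul_assoc, mul_assoc, mul_left_cancel_iff] at hx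
        exact hx
    let V : Subgroup S :=
      { carrier := {x | x = 1 ∨ x = z ∨ x = c ∨ x = z * c}
        one_mem' := Or.inl rfl
        mul_mem' := by
          have e1 : z * (z * c) = c := by rw [← mul_assoc, zz, one_mul]
          have e2 : c * (z * c) = z := by rw [← mul_assoc, zcomm, mul_assoc, hc2, mul_one]
          have e3 : z * c * z = c := by rw [zcomm, e1]
          have e4 : z * c * c = z := by rw [mul_assoc, hc2, mul_one]
          have e5 : z * c * (z * c) = 1 := by rw [mul_assoc, e2, zz]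
          rintro x y (h | h | h | h) (h' | h' | h' | h') <;> rw [h, h'] <;>
            simp [zz, hc2, e1, e2, e3, e4, e5, zcomm c]
        inv_mem' := by
          have e5 : z * c * (z * c) = 1 := by
            rw [mul_assoc, ← mul_assoc c, zcomm c, mul_assoc, hc2, mul_one, zz]
          rintro _ (rfl | rfl | rfl | rfl)
          · simp
          · exact Or.inr (Or.inl (eq_inv_of_mul_eq_one_left zz).symm)
          · exact Or.inr (Or.inr (Or.inl (eq_inv_of_mul_eq_one_left hc2).symm))
          · exact Or.inr (Or.inr (Or.inr (eq_inv_of_mul_eq_one_left e5).symm)) }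
    have hV : ∀ x, x ∈ V ↔ x = 1 ∨ x = z ∨ x = c ∨ x = z * c := fun _ => Iff.rfl
    have hVn : V.Normal := ⟨by
      rintro _ (rfl | rfl | rfl | rfl) g
      · simp
      · rw [zcomm, mul_inv_cancel_right]; exact Or.inr (Or.inl rfl)
      · exact Or.inr (Or.inr (hcl g))
      · rw [← mul_assoc, zcomm, mul_assoc, mul_assoc, ← mul_assoc g]
        exact V.mul_mem (Or.inr (Or.inl rfl)) (Or.inr (Or.inr (hcl g)))⟩
    have hCn : (centralizer {c}).Normal := ⟨fun x hx g => by
      rw [mem_centralizer_singleton_iff] at hx ⊢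
      have h1 : x * (g⁻¹ * c * g⁻¹⁻¹) = g⁻¹ * c * g⁻¹⁻¹ * x := by
        rcases hcl g⁻¹ with h | h <;> rw [h]
        · exact hx
        · rw [← mul_assoc, zcomm, mul_assoc, hx, mul_assoc]
      calc g * x * g⁻¹ * c = g * (x * (g⁻¹ * c * g⁻¹⁻¹)) * g⁻¹ := by group
        _ = _ := by rw [h1]; group⟩
    have hle : centralizer {c} ≤ V := by
      by_contra hle
      obtain ⟨x, hx, hxV, -, hxc⟩ := LinP.exists_central_mod hS V (centralizer {c}) hle
      rw [mem_centralizer_singleton_iff] at hx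
      have htc : t * c * t⁻¹ = z * c := (hcl t).resolve_left fun e =>
        hct (mul_inv_eq_iff_eq_mul.1 e).symm
      have ti : t⁻¹ = t := (eq_inv_of_mul_eq_one_left tt).symm
      have key : ∀ y, y * c = c * y → y * t = t * y → y ∈ V := by
        intro y h1 h2
        rcases hCt y h2 with h | h | h | h
        · exact Or.inl h
        · exact Or.inr (Or.inl h)
        · exact absurd (h ▸ h1).symm hct
        · rw [h, ← mul_assoc, zcomm, mul_assoc, mul_assoc, mul_left_cancel_iff] at h1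
          exact absurd h1.symm hct
      have hsq : t * x * t⁻¹ * x⁻¹ * (t * (t * x * t⁻¹ * x⁻¹) * t⁻¹) = 1 := by
        rw [show t * x * t⁻¹ * x⁻¹ * (t * (t * x * t⁻¹ * x⁻¹) * t⁻¹) =
          t * x * t⁻¹ * x⁻¹ * (t * t) * x * t⁻¹ * x⁻¹ * t⁻¹ by group, tt, ti,
          show t * x * t * x⁻¹ * 1 * x * t * x⁻¹ * t = t * x * (t * t) * x⁻¹ * t by group, tt,
          show t * x * 1 * x⁻¹ * t = t * t by group, tt]
      rcases hxc t with h | h | h | h
      · rw [mul_inv_eq_one, mul_inv_eq_iff_eq_mul] at h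
        exact hxV (key x hx h.symm)
      · apply hxV
        have h1 : x * c ∈ V := by
          refine key _ (by rw [mul_assoc, ← mul_assoc c, ← hx, mul_assoc]) ?_
          rw [mul_inv_eq_iff_eq_mul] at h
          rw [eq_comm, ← mul_inv_eq_iff_eq_mul,
            show t * (x * c) * t⁻¹ = t * x * t⁻¹ * (t * c * t⁻¹) by group, h, htc,
            ← zcomm, mul_assoc, ← mul_assoc z, zz, one_mul]
        exact (V.mul_mem_cancel_right (Or.inr (Or.inr (Or.inl rfl)))).1 h1
      · rw [h, htc, ← mul_assoc, zcomm, mul_assoc, hc2, mul_one] at hsq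
        exact z1 hsq
      · rw [h, ← mul_assoc t, zcomm t, mul_assoc z t, mul_assoc z (t * c), htc, ← mul_assoc z z,
          zz, one_mul, mul_assoc, hc2, mul_one] at hsq
        exact z1 hsq
    refine (card_le_of_le hle).trans ?_
    change ({x | x = 1 ∨ x = z ∨ x = c ∨ x = z * c} : Set S).ncard ≤ 4
    change ({1, z, c, z * c} : Set S).ncard ≤ 4
    exact (Set.ncard_insert_le _ _).trans (Nat.succ_le_succ ((Set.ncard_insert_le _ _).trans
      (Nat.succ_le_succ ((Set.ncard_insert_le _ _).trans (by simp)))))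
  have hcard := card_cent_mul (⊤ : Subgroup S) c
  rw [top_inf_eq, card_top] at hcard
  have idx : ∀ (a : S) (m : ℕ), orderOf a = m → c ∉ zpowers a → Nat.card S ≤ 2 * m →
      (zpowers a).index = 2 := by
    intro a m ha hca hm
    have h1 := (zpowers a).card_mul_index
    rw [Nat.card_zpowers, ha] at h1
    have h2 : (zpowers a).index ≠ 1 := fun e => hca (index_eq_one.1 e ▸ mem_top c)
    have h3 : (zpowers a).index ≠ 0 := FiniteIndex.index_ne_zero
    have h4 : 0 < m := ha ▸ orderOf_pos a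
    by_contra h5
    have : m * 3 ≤ m * (zpowers a).index := Nat.mul_le_mul_left _ (by omega)
    omega
  by_cases hcen : ∀ g, g * c * g⁻¹ = c
  · have h1 : cl ⊤ c = {c} := by
      ext x
      exact ⟨by rintro ⟨s, -, rfl⟩; exact hcen s, by rintro rfl; exact ⟨1, mem_top _, by group⟩⟩
    rw [h1, Set.ncard_singleton] at hcard
    exact ⟨2, LinP.dihedral_equiv hz2 hc2 (by
      rw [zcomm, mul_inv_cancel_right]; exact eq_inv_of_mul_eq_one_left zz) hcz
      (idx z 2 hz2 hcz (by omega))⟩
  push Not at hcen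
  have h8 : Nat.card S ≤ 8 := by
    have h1 : (cl ⊤ c).ncard ≤ 2 := by
      refine le_trans (Set.ncard_le_ncard (t := {c, z * c}) ?_) ?_
      · rintro _ ⟨s, -, rfl⟩; exact hcl s
      · exact (Set.ncard_insert_le _ _).trans (by simp)
    have := Nat.mul_le_mul hC h1
    omega
  obtain ⟨a, ha, haa⟩ : ∃ a, a * c * a⁻¹ = z * c ∧ a * a = z := by
    obtain ⟨g, hg⟩ := hcen
    have hg' := (hcl g).resolve_left hg
    have h1 : g * g ∈ centralizer {c} := by
      rw [mem_centralizer_singleton_iff, ← mul_inv_eq_iff_eq_mul,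
        show g * g * c * (g * g)⁻¹ = g * (g * c * g⁻¹) * g⁻¹ by group, hg', ← mul_assoc, zcomm,
        mul_assoc, mul_assoc, ← mul_assoc g, hg', ← mul_assoc, zz, one_mul]
    rcases mem_four hC (hzC c) (hself c) z1 c1 hne hne' h1 with h | h | h | h
    · refine ⟨g * c, ?_, ?_⟩
      · rw [← hg']; group
      · rw [show g * c * (g * c) = g * c * g⁻¹ * (g * g) * c by group, hg', h, mul_one, mul_assoc,
          hc2, mul_one]
    · exact ⟨g, hg', h⟩
    · exact absurd (by rw [← h]; group) hg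
    · exfalso
      apply hg
      have : c = z * (g * g) := by rw [h, ← mul_assoc, zz, one_mul]
      rw [this, ← mul_assoc, zcomm]; group
  have ha4 : orderOf a = 4 := by
    refine orderOf_eq_prime_pow (p := 2) (n := 1) (by rw [pow_one, pow_two, haa]; exact z1) ?_
    rw [show 2 ^ (1 + 1) = 2 * 2 by norm_num, pow_mul, pow_two a, haa, pow_two, zz]
  have hca : c ∉ zpowers a := by
    rintro ⟨i, hi⟩
    apply z1
    have : a * c * a⁻¹ = c := by rw [← hi]; group
    rw [ha] at this
    simpa using this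
  refine ⟨4, LinP.dihedral_equiv ha4 hc2 ?_ hca (idx a 4 ha4 hca h8)⟩
  rw [eq_inv_iff_mul_eq_one, ← eq_inv_of_mul_eq_one_left hc2,
    show c * a * c * a = c * (a * c * a⁻¹) * (a * a) by group, ha, haa, ← mul_assoc, zcomm c,
    mul_assoc z, hc2, mul_one, zz]

/-- Reduction of the sectional rank to `2`-subgroups. -/
theorem sectionalPRankLE [Finite G] (h : ∀ U : Subgroup G, IsPGroup 2 U → Rk U 16) :
    Cfsg.SectionalPRankLE 2 4 G := by
  intro H N _ A _ hA
  obtain ⟨P, hP⟩ := Local.exists_isSylowIn 2 (A.comap (QuotientGroup.mk' N))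
  have h1 := h (P.map H.subtype) (hP.isPGroup.map _) (N.map H.subtype) (by
    rintro _ ⟨a, ha, rfl⟩
    refine ⟨a * a, ?_, rfl⟩
    have := hA _ (hP.le ha)
    rw [← map_pow, pow_two] at this
    exact (QuotientGroup.eq_one_iff _).1 this)
  rw [relIndex_map_map_of_injective _ _ H.subtype_injective] at h1
  have h2 := relIndex_ker P (QuotientGroup.mk' N)
  rw [QuotientGroup.ker_mk'] at h2
  have h3 : P.map (QuotientGroup.mk' N) = A := by
    have h4 := hP.map (QuotientGroup.mk' N)
    rw [map_comap_eq_self_of_surjective (QuotientGroup.mk'_surjective N)] at h4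
    exact (h4.eq_of_le (fun a => ⟨1, Subtype.ext (by simpa using hA a a.2)⟩) h4.le le_rfl).symm
  rw [h2, h3] at h1
  exact h1

end Cfsg.Agent.Fix4
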